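import Groth.Agent.Pi1A.FEtGlue

/-!
# Extension of a finite étale cover of an open subscheme over a morphism

`ExtOver V g`, for `V` a finite étale cover of an open `U` of `X` and `g : T ⟶ X`: the pullback of `V` to
`U ×_X T` extends to a finite étale cover of `T`.
-/

set_option autoImplicit false
universe u

open CategoryTheory CategoryTheory.Limits AlgebraicGeometry TopologicalSpace
open Groth.Agent.Pi1A.FEtGlue

namespace Groth.Agent.Pi1.H395.ExtBC

/-- The pullback of the finite étale cover `V` of the open `U` of `X` to `U ×_X T` extends to a finite étale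
cover of `T`. -/
def ExtOver {X : Scheme.{u}} {U : X.Opens} (V : FEt.Cat (U : Scheme.{u})) {T : Scheme.{u}} (g : T ⟶ X) :
    Prop :=
  ∃ Y : FEt.Cat T, Nonempty ((FEt.restrict (pullback.snd U.ι g)).obj Y ≅
    (FEt.restrict (pullback.fst U.ι g)).obj V)

variable {X : Scheme.{u}} {U : X.Opens} {V : FEt.Cat (U : Scheme.{u})}

/-- `ExtOver` can be checked on any pullback square. -/
theorem extOver_iff_of_isPullback {T P : Scheme.{u}} {g : T ⟶ X} {p₁ : P ⟶ (U : Scheme.{u})} {p₂ : P ⟶ T}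
    (h : IsPullback p₁ p₂ U.ι g) :
    ExtOver V g ↔ ∃ Y : FEt.Cat T, Nonempty ((FEt.restrict p₂).obj Y ≅ (FEt.restrict p₁).obj V) := by
  constructor
  · rintro ⟨Y, ⟨e⟩⟩
    refine ⟨Y, ⟨?_⟩⟩
    exact (restrictCongr h.isoPullback_hom_snd.symm).app Y ≪≫
      (restrictComp h.isoPullback.hom (pullback.snd U.ι g)).app Y ≪≫
      (FEt.restrict h.isoPullback.hom).mapIso e ≪≫
      (restrictComp h.isoPullback.hom (pullback.fst U.ι g)).symm.app V ≪≫
      (restrictCongr h.isoPullback_hom_fst).app V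
  · rintro ⟨Y, ⟨e⟩⟩
    refine ⟨Y, ⟨?_⟩⟩
    exact (restrictCongr h.isoPullback_inv_snd.symm).app Y ≪≫
      (restrictComp h.isoPullback.inv p₂).app Y ≪≫
      (FEt.restrict h.isoPullback.inv).mapIso e ≪≫
      (restrictComp h.isoPullback.inv p₁).symm.app V ≪≫
      (restrictCongr h.isoPullback_inv_fst).app V

theorem extOver_of_iso {V' : FEt.Cat (U : Scheme.{u})} (i : V ≅ V') {T : Scheme.{u}} {g : T ⟶ X}
    (h : ExtOver V g) : ExtOver V' g := by
  obtain ⟨Y, ⟨e⟩⟩ := h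
  exact ⟨Y, ⟨e ≪≫ (FEt.restrict _).mapIso i⟩⟩

/-- Extensions pull back. -/
theorem ExtOver.comp {T T' : Scheme.{u}} {g : T ⟶ X} (h : ExtOver V g) (k : T' ⟶ T) :
    ExtOver V (k ≫ g) := by
  obtain ⟨Y, ⟨e⟩⟩ := h
  let κ : pullback U.ι (k ≫ g) ⟶ pullback U.ι g :=
    pullback.lift (pullback.fst _ _) (pullback.snd _ _ ≫ k) (by simp [pullback.condition])
  have h1 : κ ≫ pullback.fst _ _ = pullback.fst _ _ := pullback.lift_fst _ _ _
  have h2 : κ ≫ pullback.snd _ _ = pullback.snd _ _ ≫ k := pullback.lift_snd _ _ _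
  refine ⟨(FEt.restrict k).obj Y, ⟨?_⟩⟩
  exact (restrictComp (pullback.snd U.ι (k ≫ g)) k).symm.app Y ≪≫
    (restrictCongr h2.symm).app Y ≪≫
    (restrictComp κ (pullback.snd U.ι g)).app Y ≪≫
    (FEt.restrict κ).mapIso e ≪≫
    (restrictComp κ (pullback.fst U.ι g)).symm.app V ≪≫
    (restrictCongr h1).app V

theorem ExtOver.of_eq_comp {T T' : Scheme.{u}} {g : T ⟶ X} (h : ExtOver V g) {g' : T' ⟶ X} (k : T' ⟶ T)
    (hk : k ≫ g = g') : ExtOver V g' := hk ▸ h.comp k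

/-- Base change of `V` along `h : X₁ ⟶ X`. -/
theorem extOver_restrict_iff {X₁ : Scheme.{u}} (h : X₁ ⟶ X) {T : Scheme.{u}} (g : T ⟶ X₁) :
    ExtOver (U := h ⁻¹ᵁ U) ((FEt.restrict (h ∣_ U)).obj V) g ↔ ExtOver V (g ≫ h) := by
  have h1 : IsPullback (h ∣_ U) (h ⁻¹ᵁ U).ι U.ι h := isPullback_morphismRestrict h U
  have h2 : IsPullback (pullback.fst (h ⁻¹ᵁ U).ι g) (pullback.snd (h ⁻¹ᵁ U).ι g) (h ⁻¹ᵁ U).ι g :=
    IsPullback.of_hasPullback _ _
  have h3 : IsPullback (pullback.fst (h ⁻¹ᵁ U).ι g ≫ h ∣_ U) (pullback.snd (h ⁻¹ᵁ U).ι g) U.ι (g ≫ h) :=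
    h2.paste_horiz h1
  rw [extOver_iff_of_isPullback h3]
  constructor
  · rintro ⟨Y, ⟨e⟩⟩
    exact ⟨Y, ⟨e ≪≫ (restrictComp (pullback.fst (h ⁻¹ᵁ U).ι g) (h ∣_ U)).symm.app V⟩⟩
  · rintro ⟨Y, ⟨e⟩⟩
    exact ⟨Y, ⟨e ≪≫ (restrictComp (pullback.fst (h ⁻¹ᵁ U).ι g) (h ∣_ U)).app V⟩⟩

/-- If the base change of `U` to `T` is everything, nothing has to be extended. -/
theorem extOver_of_range {T : Scheme.{u}} (g : T ⟶ X) (hg : ∀ t : T, g t ∈ U) : ExtOver V g := by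
  have hr : Set.range g ⊆ U := by
    rintro _ ⟨t, rfl⟩
    exact hg t
  let l : T ⟶ (U : Scheme.{u}) := IsOpenImmersion.lift U.ι g (by simpa using hr)
  have hl : l ≫ U.ι = g := IsOpenImmersion.lift_fac _ _ _
  have hsq : IsPullback l (𝟙 T) U.ι g := by
    refine ⟨⟨by simp [hl]⟩, ⟨PullbackCone.IsLimit.mk _ (fun s => s.snd) ?_ ?_ ?_⟩⟩
    · intro s
      rw [← cancel_mono U.ι, Category.assoc, hl]
      exact s.condition.symm
    · intro s
      simp
    · intro s m h1 h2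
      simpa using h2
  rw [extOver_iff_of_isPullback hsq]
  exact ⟨(FEt.restrict l).obj V, ⟨(restrictId T).app _⟩⟩

/-- Extension over the whole scheme. -/
theorem extOver_id_iff : ExtOver V (𝟙 X) ↔ ∃ Y : FEt.Cat X, Nonempty ((FEt.restrict U.ι).obj Y ≅ V) := by
  have hsq : IsPullback (𝟙 (U : Scheme.{u})) U.ι U.ι (𝟙 X) := IsPullback.of_id_fst
  rw [extOver_iff_of_isPullback hsq]
  constructor
  · rintro ⟨Y, ⟨e⟩⟩
    exact ⟨Y, ⟨e ≪≫ (restrictId _).app V⟩⟩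
  · rintro ⟨Y, ⟨e⟩⟩
    exact ⟨Y, ⟨e ≪≫ ((restrictId _).app V).symm⟩⟩

/-- Extension over a morphism with values in an open subscheme `W` over which `V` extends. -/
theorem extOver_of_open {W : X.Opens} (hW : ExtOver V W.ι) {T : Scheme.{u}} (g : T ⟶ X)
    (hg : ∀ t : T, g t ∈ W) : ExtOver V g := by
  have hr : Set.range g ⊆ W := by
    rintro _ ⟨t, rfl⟩
    exact hg t
  exact hW.of_eq_comp (IsOpenImmersion.lift W.ι g (by simpa using hr)) (IsOpenImmersion.lift_fac _ _ _)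

/-- Extension over an isomorphic scheme. -/
theorem extOver_iso_comp_iff {T T' : Scheme.{u}} (k : T' ⟶ T) [IsIso k] (g : T ⟶ X) :
    ExtOver V (k ≫ g) ↔ ExtOver V g :=
  ⟨fun h => h.of_eq_comp (inv k) (by simp), fun h => h.comp k⟩

end Groth.Agent.Pi1.H395.ExtBC
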