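import Groth.Agent.Pi1.H395.NormalExt
import Groth.Agent.Pi1.H395.ExtBC
import Groth.Agent.Pi1.H395.Coord

/-!
# Extension across coordinate hyperplanes over a Noetherian normal domain
-/

set_option autoImplicit false
universe u

open CategoryTheory CategoryTheory.Limits AlgebraicGeometry TopologicalSpace
open Groth.Agent.Pi1A.FEtGlue Groth.Agent.Pi1.H395.ExtBC Groth.Agent.Pi1.H395.Coord

namespace Groth.Agent.Pi1.H395.Finite

variable {O A : Type u} [CommRing O] [CommRing A] {σ : Type}
  [Algebra (MvPolynomial σ O) A] {ι : Type} [Fintype ι] (e : ι → σ)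

/-- The image of the `i`-th coordinate. -/
noncomputable abbrev coord (O : Type u) [CommRing O] (A : Type u) [CommRing A] {σ : Type}
    [Algebra (MvPolynomial σ O) A] (i : σ) : A :=
  algebraMap (MvPolynomial σ O) A (MvPolynomial.X i)

/-- The open where the coordinates `e i` are invertible. -/
noncomputable abbrev coordOpen (O A : Type u) [CommRing O] [CommRing A] {σ : Type}
    [Algebra (MvPolynomial σ O) A] {ι : Type} [Fintype ι] (e : ι → σ) :
    (Spec (CommRingCat.of A)).Opens :=
  PrimeSpectrum.basicOpen (∏ i, coord O A (e i))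

/-- The structure morphism to the base. -/
noncomputable abbrev strMap (O A : Type u) [CommRing O] [CommRing A] (σ : Type)
    [Algebra (MvPolynomial σ O) A] : Spec (CommRingCat.of A) ⟶ Spec (CommRingCat.of O) :=
  Spec.map (CommRingCat.ofHom ((algebraMap (MvPolynomial σ O) A).comp MvPolynomial.C))

instance smooth_strMap [Finite σ] [Algebra.Etale (MvPolynomial σ O) A] : Smooth (strMap O A σ) := by
  rw [HasRingHomProperty.Spec_iff (P := @Smooth)]
  refine RingHom.Smooth.comp ?_ ?_
  · change (algebraMap O (MvPolynomial σ O)).Smooth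
    rw [RingHom.smooth_algebraMap]
    exact ⟨inferInstance, inferInstance⟩
  · rw [RingHom.smooth_algebraMap]
    infer_instance

theorem mem_coordOpen_iff (x : Spec (CommRingCat.of A)) :
    x ∈ coordOpen O A e ↔ ∀ i, coord O A (e i) ∉ x.asIdeal := by
  have h : x ∈ coordOpen O A e ↔ (∏ i, coord O A (e i)) ∉ x.asIdeal := Iff.rfl
  rw [h, Ideal.IsPrime.prod_mem_iff]
  simp

/-- The open where some coordinates are invertible is dense in the fibres. -/
theorem fibre_subset_closure [Module.Flat (MvPolynomial σ O) A] (s : Spec (CommRingCat.of O)) :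
    (strMap O A σ).base ⁻¹' {s} ⊆
      closure ((coordOpen O A e : Set (Spec (CommRingCat.of A))) ∩ (strMap O A σ).base ⁻¹' {s}) := by
  rintro x rfl
  let p : Ideal O := ((strMap O A σ).base x).asIdeal
  have hp : p = (x.asIdeal.comap (algebraMap (MvPolynomial σ O) A)).comap MvPolynomial.C := rfl
  let P₀ : Ideal (MvPolynomial σ O) := RingHom.ker (MvPolynomial.map (σ := σ) (Ideal.Quotient.mk p))
  have hP₀ : P₀.IsPrime := RingHom.ker_isPrime _
  have hP₀' : P₀ = p.map MvPolynomial.C := by
    rw [show P₀ = _ from MvPolynomial.ker_map (σ := σ) (Ideal.Quotient.mk p), Ideal.mk_ker]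
  have hle : P₀ ≤ x.asIdeal.comap (algebraMap (MvPolynomial σ O) A) := by
    rw [hP₀', Ideal.map_le_iff_le_comap, hp]
  obtain ⟨Q, hQle, hQp, hQ⟩ := Ideal.exists_ideal_le_liesOver_of_le (R := MvPolynomial σ O) (S := A)
    (p := P₀) (q := x.asIdeal.comap (algebraMap (MvPolynomial σ O) A)) x.asIdeal hle
  let y : Spec (CommRingCat.of A) := ⟨Q, hQp⟩
  have hyx : y ⤳ x := (PrimeSpectrum.le_iff_specializes y x).1 hQle
  have hyU : y ∈ coordOpen O A e := by
    rw [mem_coordOpen_iff]
    intro i hi
    have h1 : MvPolynomial.X (e i) ∈ P₀ := by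
      rw [hQ.over]
      exact hi
    rw [show P₀ = RingHom.ker (MvPolynomial.map (σ := σ) (Ideal.Quotient.mk p)) from rfl,
      RingHom.mem_ker, MvPolynomial.map_X] at h1
    exact MvPolynomial.X_ne_zero _ h1
  have hyf : (strMap O A σ).base y = (strMap O A σ).base x := by
    apply PrimeSpectrum.ext
    change Q.comap ((algebraMap (MvPolynomial σ O) A).comp MvPolynomial.C) = p
    rw [← Ideal.comap_comap]
    have h1 : Q.comap (algebraMap (MvPolynomial σ O) A) = P₀ := hQ.over.symm
    rw [h1]
    ext a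
    change MvPolynomial.map (Ideal.Quotient.mk p) (MvPolynomial.C a) = 0 ↔ a ∈ p
    rw [MvPolynomial.map_C, MvPolynomial.C_eq_zero, Ideal.Quotient.eq_zero_iff_mem]
  refine hyx.mem_closed isClosed_closure (subset_closure ?_)
  exact ⟨hyU, hyf⟩

/-- The local schemes of `Spec A`. -/
theorem extOver_fromSpecStalk_iff {U : (Spec (CommRingCat.of A)).Opens} (V : FEt.Cat (U : Scheme.{u}))
    (x : Spec (CommRingCat.of A)) :
    ExtOver V ((Spec (CommRingCat.of A)).fromSpecStalk x) ↔
      ExtOver V (Spec.map (CommRingCat.ofHom (algebraMap A (Localization.AtPrime x.asIdeal)))) := by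
  have h : (Spec (CommRingCat.of A)).fromSpecStalk x =
      Spec.map (Spec.stalkIso (CommRingCat.of A) x).inv ≫
        Spec.map (CommRingCat.ofHom (algebraMap A (Localization.AtPrime x.asIdeal))) := by
    rw [Spec.fromSpecStalk_eq, ← Spec.map_comp]
    congr 1
    exact (Spec.algebraMap_stalkIso_inv x).symm
  rw [h, extOver_iso_comp_iff]

theorem normal_stalk [IsDomain O] [IsIntegrallyClosed O] (s : Spec (CommRingCat.of O)) :
    IsDomain ((Spec (CommRingCat.of O)).presheaf.stalk s) ∧
      IsIntegrallyClosed ((Spec (CommRingCat.of O)).presheaf.stalk s) := by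
  let e := (Spec.stalkIso (CommRingCat.of O) s).commRingCatIsoToRingEquiv
  have h1 : IsIntegrallyClosed (Localization.AtPrime s.asIdeal) :=
    isIntegrallyClosed_of_isLocalization _ s.asIdeal.primeCompl
      s.asIdeal.primeCompl_le_nonZeroDivisors
  have h2 : IsDomain (Localization.AtPrime s.asIdeal) := inferInstance
  exact ⟨e.toMulEquiv.isDomain _, IsIntegrallyClosed.of_equiv e.symm⟩

theorem preimage_coordOpen {A' : Type u} [CommRing A'] [Algebra A A'] [Algebra (MvPolynomial σ O) A']
    [IsScalarTower (MvPolynomial σ O) A A'] :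
    Spec.map (CommRingCat.ofHom (algebraMap A A')) ⁻¹ᵁ coordOpen O A e = coordOpen O A' e := by
  ext x
  change Spec.map (CommRingCat.ofHom (algebraMap A A')) x ∈ coordOpen O A e ↔ x ∈ coordOpen O A' e
  rw [mem_coordOpen_iff, mem_coordOpen_iff]
  refine forall_congr' fun i => not_congr ?_
  change algebraMap A A' (algebraMap _ A _) ∈ x.asIdeal ↔ algebraMap _ A' _ ∈ x.asIdeal
  rw [← IsScalarTower.algebraMap_apply]

/-- A prime avoidance argument: an element outside `q` lying in all the primes of a finite set which are not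
contained in `q`. -/
theorem exists_avoid {T : Set (Ideal A)} (hT : T.Finite) (q : Ideal A) [q.IsPrime] :
    ∃ g : A, g ∉ q ∧ ∀ P ∈ T, P.IsPrime → g ∉ P → P ≤ q := by
  classical
  have h : ∀ P : Ideal A, ∃ g : A, g ∉ q ∧ (¬ P ≤ q → g ∈ P) := by
    intro P
    by_cases hP : P ≤ q
    · exact ⟨1, (Ideal.ne_top_iff_one q).1 (Ideal.IsPrime.ne_top ‹_›), fun h => absurd hP h⟩
    · obtain ⟨g, hg, hgq⟩ := SetLike.not_le_iff_exists.1 hP
      exact ⟨g, hgq, fun _ => hg⟩
  choose g hg1 hg2 using h
  refine ⟨∏ P ∈ hT.toFinset, g P, ?_, ?_⟩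
  · rw [Ideal.IsPrime.prod_mem_iff]
    rintro ⟨P, -, hP⟩
    exact hg1 P hP
  · intro P hPT hPp hgP
    by_contra hcon
    apply hgP
    rw [Ideal.IsPrime.prod_mem_iff]
    exact ⟨P, hT.mem_toFinset.2 hPT, hg2 P hcon⟩

/-- **Extension across coordinate hyperplanes over a Noetherian normal domain.**  A finite étale cover of the
open where the coordinates `e i` are invertible, which extends over the local rings at the generic points of the
hyperplanes through `q`, extends to a neighbourhood of `q`. -/
theorem exists_extOver_away [IsDomain O] [IsNoetherianRing O] [IsIntegrallyClosed O] [Finite σ]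
    [Algebra.Etale (MvPolynomial σ O) A] (q : Ideal A) [q.IsPrime]
    (V : FEt.Cat (coordOpen O A e : Scheme.{u}))
    (hext : ∀ i, ∃ (P : Ideal A) (_ : P.IsPrime), P ∈ (Ideal.span {coord O A (e i)}).minimalPrimes ∧
      P ≤ q ∧ ExtOver V (Spec.map (CommRingCat.ofHom (algebraMap A (Localization.AtPrime P))))) :
    ∃ g : A, g ∉ q ∧
      ExtOver V (Spec.map (CommRingCat.ofHom (algebraMap A (Localization.Away g)))) := by
  have hNA : IsNoetherianRing A := Algebra.FiniteType.isNoetherianRing (MvPolynomial σ O) A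
  obtain ⟨g, hgq, hg⟩ := exists_avoid (T := ⋃ i, (Ideal.span {coord O A (e i)}).minimalPrimes)
    (Set.finite_iUnion fun i => Ideal.finite_minimalPrimes_of_isNoetherianRing A _) q
  refine ⟨g, hgq, ?_⟩
  let A₁ := Localization.Away g
  have : Algebra.Etale A A₁ := Algebra.Etale.of_isLocalizationAway g
  have : Algebra.Etale (MvPolynomial σ O) A₁ := Algebra.Etale.comp (MvPolynomial σ O) A A₁
  have hNA₁ : IsNoetherianRing A₁ := IsLocalization.isNoetherianRing (Submonoid.powers g) _ hNA
  let h : Spec (CommRingCat.of A₁) ⟶ Spec (CommRingCat.of A) :=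
    Spec.map (CommRingCat.ofHom (algebraMap A A₁))
  let V₁ : FEt.Cat ((h ⁻¹ᵁ coordOpen O A e : (Spec (CommRingCat.of A₁)).Opens) : Scheme.{u}) :=
    (FEt.restrict (h ∣_ coordOpen O A e)).obj V
  have hU : h ⁻¹ᵁ coordOpen O A e = coordOpen O A₁ e := preimage_coordOpen e
  have key : ∃ Y : FEt.Cat (Spec (CommRingCat.of A₁)),
      Nonempty ((FEt.restrict (h ⁻¹ᵁ coordOpen O A e).ι).obj Y ≅ V₁) := by
    refine NormalExt.exists_extension (strMap O A₁ σ) normal_stalk (h ⁻¹ᵁ coordOpen O A e) ?_ V₁ ?_
    · rw [hU]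
      exact fibre_subset_closure e
    · intro ξ hξU hξ
      change ExtOver V₁ _
      rw [extOver_restrict_iff, ← Scheme.SpecMap_stalkMap_fromSpecStalk]
      refine ExtOver.comp ?_ _
      rw [extOver_fromSpecStalk_iff]
      rw [hU, mem_coordOpen_iff] at hξU
      push Not at hξU
      obtain ⟨i, hi⟩ := hξU
      have hht : ξ.asIdeal.height ≤ 1 := by
        rw [ringKrullDim_stalk_eq_coheight, ← idealHeight_eq_coheight] at hξ
        exact le_of_eq (by exact_mod_cast hξ)
      have h1 : ξ.asIdeal ∈ (Ideal.span {coord O A₁ (e i)}).minimalPrimes := by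
        rw [eq_coordPrime_of_height_le_one (O := O) (e i) ξ.asIdeal hht hi]
        exact coordPrime_mem_minimalPrimes (e i) ξ.asIdeal hi
      have h2 : ξ.asIdeal.comap (algebraMap A A₁) ∈ (Ideal.span {coord O A (e i)}).minimalPrimes := by
        apply comap_mem_minimalPrimes_span
        rwa [show algebraMap A A₁ (coord O A (e i)) = coord O A₁ (e i) from
          (IsScalarTower.algebraMap_apply _ _ _ _).symm]
      have h3 : ξ.asIdeal.comap (algebraMap A A₁) ≤ q := by
        refine hg _ (Set.mem_iUnion.2 ⟨i, h2⟩) h2.1.1 fun h4 => ?_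
        have h5 : algebraMap A A₁ g ∈ ξ.asIdeal := h4
        exact ξ.isPrime.ne_top (Ideal.eq_top_of_isUnit_mem _ h5 (IsLocalization.Away.algebraMap_isUnit g))
      obtain ⟨P, hPp, hPm, hPq, hPe⟩ := hext i
      have h6 : P = (h ξ).asIdeal := by
        rw [eq_coordPrime (e i) q hPm hPq]
        exact (eq_coordPrime (e i) q h2 h3).symm
      subst h6
      exact hPe
  have h7 := extOver_id_iff.2 key
  rw [extOver_restrict_iff, Category.id_comp] at h7
  exact h7

/-- Version at a local ring `R` over the point `q`. -/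
theorem extOver_of_local [IsDomain O] [IsNoetherianRing O] [IsIntegrallyClosed O] [Finite σ]
    [Algebra.Etale (MvPolynomial σ O) A] (q : Ideal A) [q.IsPrime]
    (V : FEt.Cat (coordOpen O A e : Scheme.{u}))
    (hext : ∀ i, ∃ (P : Ideal A) (_ : P.IsPrime), P ∈ (Ideal.span {coord O A (e i)}).minimalPrimes ∧
      P ≤ q ∧ ExtOver V (Spec.map (CommRingCat.ofHom (algebraMap A (Localization.AtPrime P)))))
    (R : Type u) [CommRing R] [IsLocalRing R] (φ : A →+* R)
    (hφ : (IsLocalRing.maximalIdeal R).comap φ = q) :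
    ExtOver V (Spec.map (CommRingCat.ofHom φ)) := by
  obtain ⟨g, hgq, hg⟩ := exists_extOver_away e q V hext
  have hu : IsUnit (φ g) := by
    by_contra hcon
    apply hgq
    rw [← hφ]
    exact hcon
  refine hg.of_eq_comp (Spec.map (CommRingCat.ofHom (IsLocalization.Away.lift g hu))) ?_
  rw [← Spec.map_comp, ← CommRingCat.ofHom_comp]
  congr 2
  exact IsLocalization.Away.lift_comp g hu

end Groth.Agent.Pi1.H395.Finite
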