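import Groth.Prelude.Def_CAlgX
import Groth.Prelude.Def_Hensel
import Groth.Agent.S1962
import Groth.Agent.S0538
import Groth.Agent.S0539
import Groth.Agent.S0540
import Groth.Agent.S0541

/-!
# Adic formal smoothness and strict henselizations

* `comp`, `cancel`: adically formally smooth maps composed with formally smooth maps; cancellation along
  formally unramified maps.
* `exists_strict`: a local homomorphism `A → B` which is formally smooth for the adic topology of the maximal
  ideal of `B` induces a local homomorphism between strict henselizations with the same property.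
-/

set_option autoImplicit false
set_option linter.unusedSectionVars false
universe u

open IsLocalRing

namespace Groth.Agent.Pi1.H395.AdicFS

theorem comp {A B C : Type u} [CommRing A] [CommRing B] [CommRing C] [Algebra A B] [Algebra B C]
    [Algebra A C] [IsScalarTower A B C] [Algebra.FormallySmooth B C] {𝔟 : Ideal B} {𝔠 : Ideal C}
    (hm : 𝔟.map (algebraMap B C) ≤ 𝔠) (h : CAlgX.IsAdicFormallySmooth A B 𝔟) :
    CAlgX.IsAdicFormallySmooth A C 𝔠 := by
  intro D _ _ J hJ ψ hψ
  obtain ⟨k, hk⟩ := hψ
  obtain ⟨φ, hφ⟩ := h D J hJ (ψ.comp (IsScalarTower.toAlgHom A B C)) ⟨k, fun x hx => hk _ (by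
    have h1 : (𝔟 ^ k).map (algebraMap B C) ≤ 𝔠 ^ k := by
      rw [Ideal.map_pow]
      exact Ideal.pow_right_mono hm k
    exact h1 (Ideal.mem_map_of_mem _ hx))⟩
  have hφ' : ∀ b, Ideal.Quotient.mk J (φ b) = ψ (algebraMap B C b) := fun b => DFunLike.congr_fun hφ b
  let _ : Algebra B D := φ.toRingHom.toAlgebra
  let ψ' : C →ₐ[B] D ⧸ J :=
    { ψ.toRingHom with
      commutes' := fun b => (hφ' b).symm }
  obtain ⟨χ, hχ⟩ := Algebra.FormallySmooth.comp_surjective B C J hJ ψ'
  refine ⟨{ χ.toRingHom with commutes' := fun a => ?_ }, ?_⟩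
  · change χ (algebraMap A C a) = _
    rw [IsScalarTower.algebraMap_apply A B C, χ.commutes]
    exact φ.commutes a
  · ext c
    exact DFunLike.congr_fun hχ c

theorem cancel {A A' C : Type u} [CommRing A] [CommRing A'] [CommRing C] [Algebra A A'] [Algebra A' C]
    [Algebra A C] [IsScalarTower A A' C] [Algebra.FormallyUnramified A A'] {𝔠 : Ideal C}
    (h : CAlgX.IsAdicFormallySmooth A C 𝔠) : CAlgX.IsAdicFormallySmooth A' C 𝔠 := by
  intro D _ _ J hJ ψ hψ
  let _ : Algebra A D := ((algebraMap A' D).comp (algebraMap A A')).toAlgebra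
  have : IsScalarTower A A' D := IsScalarTower.of_algebraMap_eq' rfl
  have : IsScalarTower A A' (D ⧸ J) := IsScalarTower.of_algebraMap_eq' rfl
  obtain ⟨χ, hχ⟩ := h D J hJ (ψ.restrictScalars A) hψ
  have hχ' : ∀ c, Ideal.Quotient.mk J (χ c) = ψ c := fun c => DFunLike.congr_fun hχ c
  have h1 : χ.comp (IsScalarTower.toAlgHom A A' C) = IsScalarTower.toAlgHom A A' D := by
    refine Algebra.FormallyUnramified.ext J ⟨2, hJ⟩ (fun a => ?_)
    change Ideal.Quotient.mk J (χ (algebraMap A' C a)) = Ideal.Quotient.mk J (algebraMap A' D a)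
    rw [hχ', ψ.commutes]
    rfl
  refine ⟨{ χ.toRingHom with commutes' := fun a => ?_ }, ?_⟩
  · exact DFunLike.congr_fun h1 a
  · ext c
    exact hχ' c

/-- Strict henselizations of the source and the target. -/
theorem exists_strict {A B A' B' : Type u} [CommRing A] [IsLocalRing A] [CommRing B] [IsLocalRing B]
    [Algebra A B] [IsLocalHom (algebraMap A B)] (h : CAlgX.IsAdicFormallySmooth A B (maximalIdeal B))
    [CommRing A'] [IsLocalRing A'] [Algebra A A'] [IsLocalHom (algebraMap A A')]
    [Hensel.IsStrictHenselization A A'] [CommRing B'] [IsLocalRing B'] [Algebra B B']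
    [IsLocalHom (algebraMap B B')] [Hensel.IsStrictHenselization B B'] :
    ∃ g : A' →+* B', IsLocalHom g ∧
      g.comp (algebraMap A A') = (algebraMap B B').comp (algebraMap A B) ∧
      @CAlgX.IsAdicFormallySmooth A' _ B' _ g.toAlgebra (maximalIdeal B') := by
  have hB : HenselianLocalRing B' := Hensel.IsStrictHenselization.henselian (R := B)
  have hBs : IsSepClosure (ResidueField B) (ResidueField B') := Hensel.IsStrictHenselization.isSepClosure
  have hAs : IsSepClosure (ResidueField A) (ResidueField A') := Hensel.IsStrictHenselization.isSepClosure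
  have hBsc : IsSepClosed (ResidueField B') := hBs.sep_closed
  have hAsep : Algebra.IsSeparable (ResidueField A) (ResidueField A') := hAs.separable
  let f : A →+* B' := (algebraMap B B').comp (algebraMap A B)
  have hf : IsLocalHom f := RingHom.isLocalHom_comp _ _
  let _ : Algebra (ResidueField A) (ResidueField B') := (ResidueField.map f).toAlgebra
  let τ : ResidueField A' →ₐ[ResidueField A] ResidueField B' := IsSepClosed.lift
  obtain ⟨g, ⟨hg, hg'⟩, -⟩ := Hensel.IsStrictHenselization.universal (R := A) (S := A') B' f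
    (τ : ResidueField A' →+* ResidueField B') (by
      ext x
      exact τ.commutes x)
  have hgl : IsLocalHom g := ⟨fun a ha => by
    by_contra hcon
    have h1 : residue A' a = 0 := (residue_eq_zero_iff a).2 hcon
    have h2 := hg' a
    rw [h1, map_zero, residue_eq_zero_iff] at h2
    exact h2 ha⟩
  refine ⟨g, hgl, hg, ?_⟩
  let _ : Algebra A' B' := g.toAlgebra
  let _ : Algebra A B' := f.toAlgebra
  have : IsScalarTower A B B' := IsScalarTower.of_algebraMap_eq' rfl
  have : IsScalarTower A A' B' := IsScalarTower.of_algebraMap_eq' hg.symm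
  have h1 : Algebra.FormallyEtale B B' := Groth.Agent.S1962.result B B'
  have h2 : Algebra.FormallyEtale A A' := Groth.Agent.S1962.result A A'
  have h3 : CAlgX.IsAdicFormallySmooth A B' (maximalIdeal B') :=
    comp (Groth.Agent.S0538.result B B').le h
  exact cancel h3

end Groth.Agent.Pi1.H395.AdicFS
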