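import Groth.Agent.Pi1.H395.Descend
import Groth.Agent.Pi1.H384.SplitBasic
import Groth.Agent.Pi1.H415.SHSplit
import Groth.Agent.S0294

/-!
# Descent of purity along finite families of finite local algebras
-/

set_option autoImplicit false
universe u

open CategoryTheory CategoryTheory.Limits AlgebraicGeometry

namespace Groth.Agent.Pi1.H395.DescPurity

open Groth.Agent.Pi1.H384.SplitCover Groth.Agent.Pi1.H384.SplitBasic
open Groth.Agent.Pi1.H415.SplitBC Groth.Agent.Pi1A.FEtAffine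

/-- A finite étale cover of a connected scheme all of whose points over a geometric point lie on sections is
trivial. -/
theorem exists_trivialObj_iso {P : Scheme.{u}} [ConnectedSpace P] {Ω : Type u} [Field Ω] [IsAlgClosed Ω]
    (ω : Spec (CommRingCat.of Ω) ⟶ P) (V : FEt.Cat P)
    (h : ∀ v : Spec (CommRingCat.of Ω) ⟶ V.left, v ≫ V.hom = ω →
      ∃ s : P ⟶ V.left, s ≫ V.hom = 𝟙 P ∧ ω ≫ s = v) :
    ∃ (ι : Type u) (_ : Finite ι), Nonempty (trivialObj P ι ≅ V) := by
  have hfin : Finite (FEt.fiberObj ω V) := Groth.Agent.S0294.result ω V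
  choose s hs hsv using fun v : FEt.fiberObj ω V => h v.1 v.2
  let φ : trivialObj P (FEt.fiberObj ω V) ⟶ V :=
    MorphismProperty.Over.homMk (Sigma.desc s) (by
      apply Sigma.hom_ext
      intro i
      change Sigma.ι _ i ≫ Sigma.desc s ≫ V.hom = Sigma.ι _ i ≫ Sigma.desc (fun _ => 𝟙 P)
      rw [Sigma.ι_desc_assoc, Sigma.ι_desc, hs])
  have hφ : φ.left = Sigma.desc s := rfl
  have key : IsIso φ.left := by
    refine Groth.Agent.Pi1B.FEtGalois.isIso_of_bijective_fibre ω φ ⟨?_, ?_⟩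
    · rintro ⟨a, ha⟩ ⟨b, hb⟩ hab
      obtain ⟨i, rfl⟩ := exists_sheet ω a ha
      obtain ⟨j, rfl⟩ := exists_sheet ω b hb
      have h1 : (ω ≫ Sigma.ι (fun _ : FEt.fiberObj ω V => P) i) ≫ Sigma.desc s =
          (ω ≫ Sigma.ι (fun _ : FEt.fiberObj ω V => P) j) ≫ Sigma.desc s := congrArg Subtype.val hab
      have h2 : i = j := by
        apply Subtype.ext
        rwa [Category.assoc, Category.assoc, Sigma.ι_desc, Sigma.ι_desc, hsv, hsv] at h1
      subst h2
      rfl
    · intro v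
      have h1 : (ω ≫ Sigma.ι (fun _ : FEt.fiberObj ω V => P) v) ≫ (trivialObj P (FEt.fiberObj ω V)).hom = ω := by
        change (ω ≫ Sigma.ι (fun _ : FEt.fiberObj ω V => P) v) ≫ Sigma.desc (fun _ => 𝟙 P) = ω
        rw [Category.assoc, Sigma.ι_desc, Category.comp_id]
      refine ⟨⟨ω ≫ Sigma.ι (fun _ : FEt.fiberObj ω V => P) v, h1⟩, ?_⟩
      apply Subtype.ext
      change (ω ≫ Sigma.ι (fun _ : FEt.fiberObj ω V => P) v) ≫ φ.left = v.1
      rw [hφ, Category.assoc, Sigma.ι_desc, hsv]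
  refine ⟨_, hfin, ⟨?_⟩⟩
  exact isoMk (T := trivialObj P (FEt.fiberObj ω V)) (T' := V) (asIso φ.left) (MorphismProperty.Over.w φ)

/-- A union of connected pieces through a common point is connected. -/
theorem connectedSpace_of_family {P : Scheme.{u}} {J : Type u} [Nonempty J] (Q : J → Scheme.{u})
    (q : ∀ j, Q j ⟶ P) (hsurj : ∀ p : P, ∃ j, p ∈ Set.range (q j)) (hQ : ∀ j, ConnectedSpace (Q j))
    (p₀ : P) (hp₀ : ∀ j, p₀ ∈ Set.range (q j)) : ConnectedSpace P := by
  have h1 : (⋃ j, Set.range (q j)) = Set.univ := by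
    rw [Set.eq_univ_iff_forall]
    intro p
    obtain ⟨j, hj⟩ := hsurj p
    exact Set.mem_iUnion.2 ⟨j, hj⟩
  have h2 : _root_.IsConnected (⋃ j, Set.range (q j)) := by
    refine ⟨⟨p₀, Set.mem_iUnion.2 ⟨Classical.arbitrary J, hp₀ _⟩⟩, ?_⟩
    refine isPreconnected_iUnion ⟨p₀, Set.mem_iInter.2 hp₀⟩ fun j => ?_
    have := hQ j
    exact (isConnected_range (q j).continuous).isPreconnected
  rw [h1] at h2
  exact connectedSpace_iff_univ.2 h2

/-- Descent of extendability: `V` is pointwise split by a finite jointly surjective family of universally closed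
morphisms with connected pairwise fibre products and a common point. -/
theorem exists_extension {P S : Scheme.{u}} (i : P ⟶ S) (V : FEt.Cat P)
    {J : Type u} [Finite J] [Nonempty J] (Q : J → Scheme.{u}) (q : ∀ j, Q j ⟶ P)
    [∀ j, UniversallyClosed (q j)] (hsurj : ∀ p : P, ∃ j, p ∈ Set.range (q j))
    (hconn : ∀ j k, ConnectedSpace ↑(pullback (q j) (q k)))
    {Ω : Type u} [Field Ω] [IsAlgClosed Ω] (ω : ∀ j, Spec (CommRingCat.of Ω) ⟶ Q j)
    (hω : ∀ j k, ω j ≫ q j = ω k ≫ q k) (hsplit : ∀ j, PtSplit V.hom (q j)) :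
    ∃ Y : FEt.Cat S, Nonempty ((FEt.restrict i).obj Y ≅ V) := by
  have hF : IsFinite V.hom := V.prop.1
  have hE : Etale V.hom := V.prop.2
  let j₀ : J := Classical.arbitrary J
  have hQ : ∀ j, ConnectedSpace (Q j) := by
    intro j
    have := hconn j j
    have hs : Function.Surjective (pullback.fst (q j) (q j)) := by
      intro x
      refine ⟨pullback.diagonal (q j) x, ?_⟩
      rw [← Scheme.Hom.comp_apply, pullback.diagonal_fst]
      rfl
    exact hs.connectedSpace (pullback.fst (q j) (q j)).continuous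
  have hP : ConnectedSpace P := connectedSpace_of_family Q q hsurj hQ
    ((ω j₀ ≫ q j₀) (IsLocalRing.closedPoint Ω)) (fun j => by
      rw [← hω j j₀]
      exact ⟨ω j (IsLocalRing.closedPoint Ω), (Scheme.Hom.comp_apply _ _ _).symm⟩)
  obtain ⟨ι, hι, ⟨e⟩⟩ := exists_trivialObj_iso (ω j₀ ≫ q j₀) V (by
    intro v hv
    have key : ∀ j, ∃ s : Q j ⟶ V.left, s ≫ V.hom = q j ∧ ω j ≫ s = v := fun j =>
      hsplit j Ω v (ω j) (by rw [hv]; exact hω j₀ j)
    choose s hs hsv using key
    obtain ⟨t, ht, htq⟩ := Descend.exists_section V.hom Q q hsurj hconn ω hω s hs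
      (fun j k => by rw [hsv, hsv])
    exact ⟨t, ht, by rw [Category.assoc, htq, hsv]⟩)
  exact ⟨trivialObj S ι, ⟨restrictTrivial i ι ≪≫ e⟩⟩

section Ring

open IsLocalRing TensorProduct

variable {R : Type u} [CommRing R] [IsLocalRing R]

theorem mem_puncturedSpec (A : Type u) [CommRing A] [IsLocalRing A] (x : Spec (CommRingCat.of A)) :
    x ∈ FEt.puncturedSpec A ↔ x.asIdeal ≠ maximalIdeal A := by
  have h1 : x ∈ FEt.puncturedSpec A ↔ (x : PrimeSpectrum A) ≠ closedPoint A := Iff.rfl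
  rw [h1]
  exact not_congr ⟨fun h => congrArg PrimeSpectrum.asIdeal h, fun h => PrimeSpectrum.ext h⟩

theorem preimage_puncturedSpec (S : Type u) [CommRing S] [IsLocalRing S] [Algebra R S]
    [Algebra.IsIntegral R S] :
    Spec.map (CommRingCat.ofHom (algebraMap R S)) ⁻¹ᵁ FEt.puncturedSpec R = FEt.puncturedSpec S := by
  ext x
  change Spec.map (CommRingCat.ofHom (algebraMap R S)) x ∈ FEt.puncturedSpec R ↔ x ∈ FEt.puncturedSpec S
  rw [mem_puncturedSpec, mem_puncturedSpec, not_iff_not]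
  change x.asIdeal.comap (algebraMap R S) = maximalIdeal R ↔ _
  constructor
  · intro h
    have h1 : (x.asIdeal.comap (algebraMap R S)).IsMaximal := by rw [h]; infer_instance
    exact IsLocalRing.eq_maximalIdeal (Ideal.isMaximal_of_isIntegral_of_isMaximal_comap x.asIdeal h1)
  · intro h
    rw [h]
    have h1 : ((maximalIdeal S).comap (algebraMap R S)).IsMaximal :=
      Ideal.isMaximal_comap_of_isIntegral_of_isMaximal _
    exact IsLocalRing.eq_maximalIdeal h1

theorem connectedSpace_pullback (S T : Type u) [CommRing S] [IsLocalRing S] [Algebra R S]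
    [Algebra.IsIntegral R S] [CommRing T] [IsLocalRing T] [Algebra R T] [Algebra.IsIntegral R T]
    [IsLocalRing (S ⊗[R] T)]
    (hc : _root_.IsConnected {x : PrimeSpectrum (S ⊗[R] T) | x.asIdeal ≠ maximalIdeal (S ⊗[R] T)}) :
    ConnectedSpace ↑(pullback (Spec.map (CommRingCat.ofHom (algebraMap R S)) ∣_ FEt.puncturedSpec R)
      (Spec.map (CommRingCat.ofHom (algebraMap R T)) ∣_ FEt.puncturedSpec R)) := by
  let gS : Spec (CommRingCat.of S) ⟶ Spec (CommRingCat.of R) :=
    Spec.map (CommRingCat.ofHom (algebraMap R S))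
  let gT : Spec (CommRingCat.of T) ⟶ Spec (CommRingCat.of R) :=
    Spec.map (CommRingCat.ofHom (algebraMap R T))
  let P := FEt.puncturedSpec R
  have h1 := IsPullback.of_hasPullback (gS ∣_ P) (gT ∣_ P)
  have h2 : IsPullback (gT ∣_ P) (gT ⁻¹ᵁ P).ι P.ι gT := isPullback_morphismRestrict gT P
  have h3 := h1.paste_vert h2
  rw [morphismRestrict_ι] at h3
  let a : Spec (CommRingCat.of (S ⊗[R] T)) ⟶ Spec (CommRingCat.of S) :=
    Spec.map (CommRingCat.ofHom (algebraMap S (S ⊗[R] T)))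
  let b : Spec (CommRingCat.of (S ⊗[R] T)) ⟶ Spec (CommRingCat.of T) :=
    Spec.map (CommRingCat.ofHom (Algebra.TensorProduct.includeRight : T →ₐ[R] S ⊗[R] T).toRingHom)
  have h4 : IsPullback a b gS gT := isPullback_SpecMap_of_isPushout _ _ _ _
    (CommRingCat.isPushout_tensorProduct R S T)
  have h5 := h3.of_bot' h4
  set m := h4.lift (pullback.fst (gS ∣_ P) (gT ∣_ P) ≫ (gS ⁻¹ᵁ P).ι)
    (pullback.snd (gS ∣_ P) (gT ∣_ P) ≫ (gT ⁻¹ᵁ P).ι) (by rw [Category.assoc, h3.w]) with hm
  have hopen : IsOpenImmersion m := MorphismProperty.of_isPullback h5 inferInstance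
  have hrange : Set.range m = {x : PrimeSpectrum (S ⊗[R] T) | x.asIdeal ≠ maximalIdeal (S ⊗[R] T)} := by
    have h6 : m = h5.isoPullback.hom ≫ pullback.snd (gS ⁻¹ᵁ P).ι a := h5.isoPullback_hom_snd.symm
    have h7 : Set.range m = Set.range (pullback.snd (gS ⁻¹ᵁ P).ι a) := by
      rw [h6]
      ext x
      constructor
      · rintro ⟨y, rfl⟩
        exact ⟨h5.isoPullback.hom y, (Scheme.Hom.comp_apply _ _ _).symm⟩
      · rintro ⟨y, rfl⟩
        refine ⟨h5.isoPullback.inv y, ?_⟩
        rw [← Scheme.Hom.comp_apply, Iso.inv_hom_id_assoc]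
    rw [h7, IsOpenImmersion.range_pullbackSnd]
    have h8 : (gS ⁻¹ᵁ P).ι.opensRange = FEt.puncturedSpec S := by
      rw [Scheme.Opens.opensRange_ι]
      exact preimage_puncturedSpec S
    rw [h8]
    have h9 : a ⁻¹ᵁ FEt.puncturedSpec S = FEt.puncturedSpec (S ⊗[R] T) :=
      preimage_puncturedSpec (S ⊗[R] T)
    rw [h9]
    ext x
    exact mem_puncturedSpec _ x
  have h10 : _root_.IsConnected (Set.range m) := by
    rw [hrange]
    exact hc
  have h11 : _root_.IsConnected (Set.univ : Set ↑(pullback (gS ∣_ P) (gT ∣_ P))) := by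
    rw [← Set.image_univ] at h10
    refine ⟨?_, (m.isOpenEmbedding.isInducing.isPreconnected_image).1 h10.isPreconnected⟩
    obtain ⟨_, y, hy, -⟩ := h10.nonempty
    exact ⟨y, hy⟩
  exact connectedSpace_iff_univ.2 h11

/-- **Descent of purity** along a finite jointly surjective family of integral local algebras `S j` with
separably closed residue fields, the pairwise tensor products of which are local with connected punctured
spectra, and which have a common geometric point outside the closed point. -/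
theorem purityHolds_of_family {J : Type u} [Finite J] [Nonempty J] (S : J → Type u)
    [∀ j, CommRing (S j)] [∀ j, HenselianLocalRing (S j)] [∀ j, IsSepClosed (ResidueField (S j))]
    [∀ j, Algebra R (S j)] [∀ j, Algebra.IsIntegral R (S j)] (hpur : ∀ j, FEt.PurityHolds (S j))
    (hsurj : ∀ p : PrimeSpectrum R, ∃ (j : J) (q : PrimeSpectrum (S j)),
      q.comap (algebraMap R (S j)) = p)
    (hconn : ∀ j k, ∃ _ : IsLocalRing (S j ⊗[R] S k),
      _root_.IsConnected {x : PrimeSpectrum (S j ⊗[R] S k) | x.asIdeal ≠ maximalIdeal (S j ⊗[R] S k)})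
    {Ω : Type u} [Field Ω] [IsAlgClosed Ω] (ψ : ∀ j, S j →+* Ω)
    (hψ : ∀ j k, (ψ j).comp (algebraMap R (S j)) = (ψ k).comp (algebraMap R (S k)))
    (hψm : ∀ j, RingHom.ker (ψ j) ≠ maximalIdeal (S j)) : FEt.PurityHolds R := by
  refine ⟨fun V => ?_⟩
  let P := FEt.puncturedSpec R
  let g : ∀ j, Spec (CommRingCat.of (S j)) ⟶ Spec (CommRingCat.of R) := fun j =>
    Spec.map (CommRingCat.ofHom (algebraMap R (S j)))
  have hU : ∀ j, g j ⁻¹ᵁ P = FEt.puncturedSpec (S j) := fun j => preimage_puncturedSpec (S j)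
  have hint : ∀ j, IsIntegralHom (g j) := fun j => by
    rw [IsIntegralHom.SpecMap_iff]
    exact algebraMap_isIntegral_iff.mpr inferInstance
  have hUC : ∀ j, UniversallyClosed (g j ∣_ P) := fun j => inferInstance
  let Q : J → Scheme.{u} := fun j => ((g j ⁻¹ᵁ P : (Spec (CommRingCat.of (S j))).Opens) : Scheme.{u})
  let q : ∀ j, Q j ⟶ (P : Scheme.{u}) := fun j => g j ∣_ P
  have hq : ∀ j, UniversallyClosed (q j) := hUC
  have hrange : ∀ j, Set.range (Spec.map (CommRingCat.ofHom (ψ j))) ⊆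
      Set.range (g j ⁻¹ᵁ P).ι := by
    rintro j _ ⟨x, rfl⟩
    rw [Scheme.Opens.range_ι, hU j]
    refine (mem_puncturedSpec _ _).2 ?_
    have hx : x.asIdeal = ⊥ := (Ideal.eq_bot_or_top x.asIdeal).resolve_right x.isPrime.ne_top
    change x.asIdeal.comap (ψ j) ≠ _
    rw [hx]
    exact hψm j
  let ω : ∀ j, Spec (CommRingCat.of Ω) ⟶ Q j := fun j =>
    IsOpenImmersion.lift (g j ⁻¹ᵁ P).ι (Spec.map (CommRingCat.ofHom (ψ j))) (hrange j)
  have hω : ∀ j, ω j ≫ (g j ⁻¹ᵁ P).ι = Spec.map (CommRingCat.ofHom (ψ j)) := fun j =>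
    IsOpenImmersion.lift_fac _ _ _
  obtain ⟨Y, ⟨e⟩⟩ := exists_extension P.ι V Q q (fun p => by
      obtain ⟨j, y, hy⟩ := hsurj (P.ι p)
      have hy' : g j y = P.ι p := hy
      have hyU : y ∈ g j ⁻¹ᵁ P := by
        change g j y ∈ P
        rw [hy']
        exact p.2
      refine ⟨j, ⟨y, hyU⟩, P.ι.isOpenEmbedding.injective ?_⟩
      have h0 := congrArg (fun f => f ⟨y, hyU⟩) (congrArg (fun (f : Q j ⟶ Spec (CommRingCat.of R)) =>
        (f : _ → _)) (morphismRestrict_ι (g j) P))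
      simp only [Scheme.Hom.comp_apply] at h0
      exact h0.trans hy')
    (fun j k => by
      obtain ⟨hl, hc⟩ := hconn j k
      exact connectedSpace_pullback (S j) (S k) hc) ω
    (fun j k => by
      rw [← cancel_mono P.ι]
      change (ω j ≫ g j ∣_ P) ≫ P.ι = (ω k ≫ g k ∣_ P) ≫ P.ι
      rw [Category.assoc, Category.assoc, morphismRestrict_ι, morphismRestrict_ι, reassoc_of% (hω j),
        reassoc_of% (hω k), ← Spec.map_comp, ← Spec.map_comp, ← CommRingCat.ofHom_comp,
        ← CommRingCat.ofHom_comp, hψ j k])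
    (fun j => by
      have h1 : (FEt.restrict (g j ⁻¹ᵁ P).ι).EssSurj := by
        rw [hU j]
        exact hpur j
      exact Groth.Agent.Pi1.H415.SHSplit.ptSplit_of_extends (g j ⁻¹ᵁ P).ι (q j) V
        ((FEt.restrict (g j ⁻¹ᵁ P).ι).objPreimage ((FEt.restrict (q j)).obj V))
        ((FEt.restrict (g j ⁻¹ᵁ P).ι).objObjPreimageIso ((FEt.restrict (q j)).obj V)))
  exact ⟨Y, ⟨e⟩⟩

end Ring

end Groth.Agent.Pi1.H395.DescPurity
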