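import Groth.Agent.Pi1B.ExtStep
import Groth.Agent.S0273
import Groth.Agent.S0287
import Groth.Agent.Ega4dB.SmoothReg
import Groth.Agent.CalgA.SerreLocal

/-!
# Extension of finite etale covers over smooth schemes over a normal base
-/

set_option autoImplicit false
universe u

open CategoryTheory CategoryTheory.Limits AlgebraicGeometry TopologicalSpace
open Groth.Agent.Pi1A.FEtGlue Groth.Agent.Pi1B.ExtStep

namespace Groth.Agent.Pi1.H395.NormalExt

variable {X : Scheme.{u}}

/-- The dimension of the local rings does not increase under generization. -/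
theorem ringKrullDim_le_of_specializes {S : Scheme.{u}} {s t : S} (h : s ⤳ t) :
    ringKrullDim (S.presheaf.stalk s) ≤ ringKrullDim (S.presheaf.stalk t) := by
  have h1 : t ≤ s := h
  rw [ringKrullDim_stalk_eq_coheight, ringKrullDim_stalk_eq_coheight]
  exact WithBot.coe_le_coe.mpr (Order.coheight_anti h1)

/-- One step extension at a maximal point of the complement, with a regularity hypothesis at this point only. -/
lemma step_at [IsLocallyNoetherian X] {U : X.Opens} (hU : Dense (U : Set X)) {Y : FEt.Cat (U : Scheme.{u})}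
    (hunr : ∀ ξ : X, ξ ∉ U → ringKrullDim (X.presheaf.stalk ξ) = 1 →
      ∃ Yξ : FEt.Cat (Spec (X.presheaf.stalk ξ)),
        Nonempty ((FEt.restrict (pullback.snd U.ι (X.fromSpecStalk ξ))).obj Yξ ≅
          (FEt.restrict (pullback.fst U.ι (X.fromSpecStalk ξ))).obj Y))
    {W : X.Opens} (hW : Ext Y W) (x : X) (hx : x ∉ W) (hmax : ∀ y : X, y ⤳ x → y ∉ W → y = x)
    (hreg : ∀ y : X, y ⤳ x → y ∉ U → IsRegularLocalRing (X.presheaf.stalk y)) :
    ∃ W' : X.Opens, W ≤ W' ∧ x ∈ W' ∧ Ext Y W' := by
  obtain ⟨hUW, V, ⟨r⟩⟩ := hW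
  have hxU : x ∉ U := fun h => hx (hUW h)
  have hregx := hreg x specializes_rfl hxU
  have hdomx : IsDomain (X.presheaf.stalk x) := Groth.Agent.S0558.result _
  have key : ∃ Yx : FEt.Cat (Spec (X.presheaf.stalk x)),
      Nonempty ((FEt.restrict (pullback.snd W.ι (X.fromSpecStalk x))).obj Yx ≅
        (FEt.restrict (pullback.fst W.ι (X.fromSpecStalk x))).obj V) := by
    rcases lt_trichotomy (ringKrullDim (X.presheaf.stalk x)) 1 with h | h | h
    · -- dimension zero
      exfalso
      apply hxU
      apply Pi1B.ExtBasic2.mem_of_dim_zero U hU x hdomx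
      rw [ringKrullDim_stalk_eq_coheight] at h ⊢
      norm_cast at h ⊢
      exact Order.lt_one_iff.mp h
    · -- dimension one
      obtain ⟨Yx, ⟨e⟩⟩ := hunr x hxU h
      have hmaxU : ∀ y : X, y ⤳ x → y ∉ U → y = x := by
        intro y hy hyU
        by_contra hne
        apply hyU
        have hregy := hreg y hy hyU
        have hdomy : IsDomain (X.presheaf.stalk y) := Groth.Agent.S0558.result _
        apply Pi1B.ExtBasic2.mem_of_dim_zero U hU y hdomy
        have h1 : x ≤ y := hy
        have h2 : x < y := lt_of_le_not_ge h1 fun h3 => hne (hy.antisymm h3).eq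
        rw [ringKrullDim_stalk_eq_coheight] at h ⊢
        norm_cast at h ⊢
        have h4 : Order.coheight y ≤ Order.coheight x := Order.coheight_anti h1
        have h3 := Order.coheight_strictAnti h2 (by
          rw [h] at h4; exact lt_of_le_of_lt h4 (by exact ENat.natCast_lt_top 1))
        rw [h] at h3
        exact Order.lt_one_iff.mp h3
      refine ⟨Yx, transport hUW (X.fromSpecStalk x) ?_ Y V r Yx e⟩
      ext p
      rw [mem_range_snd_iff U x hxU hmaxU, mem_range_snd_iff W x hx hmax]
    · -- dimension at least two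
      have h2 : (2 : WithBot ℕ∞) ≤ ringKrullDim (X.presheaf.stalk x) := by
        rw [ringKrullDim_stalk_eq_coheight] at h ⊢
        norm_cast at h
        have h3 : (2 : ℕ∞) ≤ Order.coheight x := Order.add_one_le_of_lt h
        exact WithBot.coe_le_coe.mpr h3
      have := essSurj_of_purity W x hx hmax (Groth.Agent.S0247.result _ h2)
      exact ⟨_, ⟨(FEt.restrict (pullback.snd W.ι (X.fromSpecStalk x))).objObjPreimageIso _⟩⟩
  obtain ⟨Yx, ⟨e⟩⟩ := key
  obtain ⟨W', hWW', V', hxW', ⟨r'⟩⟩ := Groth.Agent.Pi1A.ExtNhd.exists_extension_nhd W V x Yx e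
  refine ⟨W', hWW', hxW', hUW.trans hWW', V', ⟨?_⟩⟩
  exact (restrictCongr (by simp)).app V' ≪≫ (restrictComp (X.homOfLE hUW) (X.homOfLE hWW')).app V' ≪≫
    (FEt.restrict (X.homOfLE hUW)).mapIso r' ≪≫ r

/-- Extension along a normal base: if a finite etale cover of an open `U`, dense in every fibre of the smooth
morphism `X → S` to a Noetherian normal scheme, extends over the codimension one points of `X`, it
extends to `X`. -/
theorem exists_extension {S : Scheme.{u}} (f : X ⟶ S) [Smooth f] [IsNoetherian S] [IsNoetherian X]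
    (hS : ∀ s : S, IsDomain (S.presheaf.stalk s) ∧ IsIntegrallyClosed (S.presheaf.stalk s))
    (U : X.Opens)
    (hU : ∀ s : S, f.base ⁻¹' {s} ⊆ closure ((U : Set X) ∩ f.base ⁻¹' {s}))
    (V : FEt.Cat (U : Scheme.{u}))
    (hext : ∀ ξ : X, ξ ∉ U → ringKrullDim (X.presheaf.stalk ξ) = 1 →
      ∃ Yξ : FEt.Cat (Spec (X.presheaf.stalk ξ)),
        Nonempty ((FEt.restrict (pullback.snd U.ι (X.fromSpecStalk ξ))).obj Yξ ≅
          (FEt.restrict (pullback.fst U.ι (X.fromSpecStalk ξ))).obj V)) :
    ∃ Y : FEt.Cat X, Nonempty ((FEt.restrict U.ι).obj Y ≅ V) := by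
  have hUd : Dense (U : Set X) := by
    intro x
    exact closure_mono Set.inter_subset_left (hU (f.base x) rfl)
  -- regularity over the points of codimension at most one
  have hregS : ∀ s : S, ringKrullDim (S.presheaf.stalk s) ≤ 1 →
      IsRegularLocalRing (S.presheaf.stalk s) := by
    intro s hs
    obtain ⟨h1, h2⟩ := hS s
    exact CalgA.SerreLocal.isRegularLocalRing_of_isIntegrallyClosed hs
  have hregX : ∀ x : X, ringKrullDim (S.presheaf.stalk (f x)) ≤ 1 →
      IsRegularLocalRing (X.presheaf.stalk x) := fun x hx =>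
    Ega4dB.SmoothReg.isRegularLocalRing_stalk_of_smooth f x (hregS _ hx)
  obtain ⟨O, hO, hmax⟩ := WellFounded.has_min
    (wellFounded_gt (α := X.Opens)) {O | Ext V O} ⟨U, Ext.refl V⟩
  have hmem : ∀ x : X, ringKrullDim (S.presheaf.stalk (f x)) ≤ 1 → x ∈ O := by
    intro z hz
    by_contra hzO
    obtain ⟨x, hxz, hxO, hxmax⟩ := Pi1B.ExtBasic2.exists_maximal_not_mem O z hzO
    obtain ⟨W', hOW', hxW', hW'⟩ := step_at hUd hext hO x hxO hxmax (fun y hy _ => by
      refine hregX y ((ringKrullDim_le_of_specializes ?_).trans hz)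
      exact (hy.trans hxz).map f.continuous)
    refine hmax W' hW' (lt_of_le_of_ne hOW' ?_)
    rintro rfl
    exact hxO hxW'
  obtain ⟨hUO, V', ⟨r⟩⟩ := hO
  have hequiv : (FEt.restrict O.ι).IsEquivalence := by
    refine Groth.Agent.S0273.result f O ?_ ?_
    · rintro s hs x rfl
      refine hmem x ?_
      by_contra hlt
      obtain ⟨h1, h2⟩ := hS (f x)
      have h3 := CalgA.SerreLocal.two_le_depth_of_isIntegrallyClosed hlt
      exact absurd (h3.trans hs) (by decide)
    · intro s
      exact (hU s).trans (closure_mono (Set.inter_subset_inter_left _ hUO))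
  refine ⟨(FEt.restrict O.ι).objPreimage V', ⟨?_⟩⟩
  exact (restrictCongr (X.homOfLE_ι hUO).symm).app _ ≪≫ (restrictComp (X.homOfLE hUO) O.ι).app _ ≪≫
    (FEt.restrict (X.homOfLE hUO)).mapIso ((FEt.restrict O.ι).objObjPreimageIso V') ≪≫ r

end Groth.Agent.Pi1.H395.NormalExt
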