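import Groth.Agent.Pi1.H395.PurityNormal
import Groth.Agent.Pi1.H395.DescPurity
import Groth.Agent.S0568
import Groth.Agent.FlatA.DimFin
import Mathlib.RingTheory.DedekindDomain.IntegralClosure

/-!
# Purity for regular local homomorphisms over complete bases with separably closed residue field
-/

set_option autoImplicit false
set_option linter.unusedSectionVars false
universe u

open IsLocalRing TensorProduct AlgebraicGeometry CategoryTheory CategoryTheory.Limits

namespace Groth.Agent.Pi1.H395.PurityComplete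

open RegClass PurityNormal

/-- Primes of a tensor product over a compatible pair of primes. -/
theorem exists_prime_tensor (O A B : Type u) [CommRing O] [CommRing A] [CommRing B] [Algebra O A]
    [Algebra O B] (x : PrimeSpectrum A) (y : PrimeSpectrum B)
    (h : x.comap (algebraMap O A) = y.comap (algebraMap O B)) :
    ∃ z : PrimeSpectrum (A ⊗[O] B), z.comap (algebraMap A (A ⊗[O] B)) = x := by
  obtain ⟨z, h1, -⟩ := Scheme.Pullback.exists_preimage_pullback
    (f := Spec.map (CommRingCat.ofHom (algebraMap O A)))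
    (g := Spec.map (CommRingCat.ofHom (algebraMap O B))) x y h
  refine ⟨(pullbackSpecIso O A B).hom z, ?_⟩
  have h2 := congr($(pullbackSpecIso_hom_fst' O A B) z)
  rw [h1] at h2
  exact h2

section Normalization

variable (O : Type u) [CommRing O] [IsLocalRing O]

/-- The normalization of `O / p`. -/
abbrev Nm (p : PrimeSpectrum O) : Type u := integralClosure (O ⧸ p.asIdeal) (FractionRing (O ⧸ p.asIdeal))

variable {O} (p : PrimeSpectrum O)

theorem isIntegrallyClosed_nm : IsIntegrallyClosed (Nm O p) :=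
  integralClosure.isIntegrallyClosedOfFiniteExtension (FractionRing (O ⧸ p.asIdeal))

theorem finite_nm (hO : SC O) : Module.Finite O (Nm O p) := by
  have := hO.noeth
  have := hO.complete
  have h1 := (Groth.Agent.S0568.result O).2 p.asIdeal (FractionRing (O ⧸ p.asIdeal))
    (Module.Finite.self _)
  exact Module.Finite.trans (O ⧸ p.asIdeal) (Nm O p)

theorem isLocalRing_nm (hO : SC O) : IsLocalRing (Nm O p) := by
  have := hO.noeth
  have := hO.complete
  have := finite_nm p hO
  exact Ega4C.CplFinite.isLocalRing_of_finite O (Nm O p)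

theorem ringKrullDim_nm : ringKrullDim (Nm O p) = ringKrullDim (O ⧸ p.asIdeal) := by
  have h1 : Algebra.IsIntegral (O ⧸ p.asIdeal) (Nm O p) := inferInstance
  have h2 : FaithfulSMul (O ⧸ p.asIdeal) (Nm O p) := inferInstance
  exact FlatA.DimFin.ringKrullDim_eq_of_isIntegral_of_injective _ _ (FaithfulSMul.algebraMap_injective _ _)

theorem exists_comap_nm {x : PrimeSpectrum O} (h : p.asIdeal ≤ x.asIdeal) :
    ∃ y : PrimeSpectrum (Nm O p), y.comap (algebraMap O (Nm O p)) = x := by
  have h1 : Algebra.IsIntegral (O ⧸ p.asIdeal) (Nm O p) := inferInstance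
  have h2 : FaithfulSMul (O ⧸ p.asIdeal) (Nm O p) := inferInstance
  obtain ⟨y, hy⟩ : x ∈ Set.range (PrimeSpectrum.comap (Ideal.Quotient.mk p.asIdeal)) := by
    rw [range_comap_of_surjective _ _ Ideal.Quotient.mk_surjective, Ideal.mk_ker]
    exact h
  obtain ⟨z, hz⟩ := Algebra.IsIntegral.comap_surjective (R := O ⧸ p.asIdeal) (S := Nm O p) y
  refine ⟨z, ?_⟩
  rw [← hy, ← hz]
  rfl

theorem not_ringKrullDim_quotient_le_zero (hp : p.asIdeal ∈ minimalPrimes O) (h0 : ¬ ringKrullDim O ≤ 0) :
    ¬ ringKrullDim (O ⧸ p.asIdeal) ≤ 0 := by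
  intro h
  apply h0
  have h1 : Ring.KrullDimLE 0 (O ⧸ p.asIdeal) := Ring.krullDimLE_iff.2 (by exact_mod_cast h)
  have h2 : IsField (O ⧸ p.asIdeal) := Ring.KrullDimLE.isField_of_isDomain
  have h3 : p.asIdeal.IsMaximal := Ideal.Quotient.maximal_of_isField _ h2
  have h4 : p.asIdeal = maximalIdeal O := IsLocalRing.eq_maximalIdeal h3
  have h5 : Ring.KrullDimLE 0 O := by
    refine Ring.KrullDimLE.mk₀ fun I hI => ?_
    have h6 : I ≤ p.asIdeal := by
      rw [h4]
      exact IsLocalRing.le_maximalIdeal hI.ne_top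
    have h7 : p.asIdeal ≤ I := hp.2 ⟨hI, bot_le⟩ h6
    rwa [le_antisymm h6 h7]
  have := Ring.krullDimLE_iff.1 h5
  exact_mod_cast this

end Normalization

section Family

variable {O R : Type u} [CommRing O] [IsLocalRing O] [CommRing R] [IsLocalRing R] [Algebra O R]
  [IsLocalHom (algebraMap O R)]

theorem isLocalRing_rtensor (hO : SC O) (N : Type u) [CommRing N] [IsLocalRing N] [Algebra O N]
    [Module.Finite O N] : IsLocalRing (R ⊗[O] N) := by
  have := hO.sep
  have := isLocalRing_tensor O R N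
  exact (Algebra.TensorProduct.comm O R N).symm.toRingEquiv.isLocalRing

theorem isConnected_punctured_tensor (hO : SC O) (hR : SC R) (h : CAlg.IsRegularHom O R) (hc : C1 O R)
    (N N' : Type u) [CommRing N] [IsLocalRing N] [Algebra O N] [Module.Finite O N] [CommRing N']
    [IsLocalRing N'] [Algebra O N'] [Module.Finite O N'] :
    ∃ _ : IsLocalRing ((R ⊗[O] N) ⊗[R] (R ⊗[O] N')), _root_.IsConnected
      {x : PrimeSpectrum ((R ⊗[O] N) ⊗[R] (R ⊗[O] N')) | x.asIdeal ≠
        maximalIdeal ((R ⊗[O] N) ⊗[R] (R ⊗[O] N'))} := by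
  have := hO.sep
  have := hO.noeth
  have := hR.noeth
  have := isLocalHom_of_finite O N'
  have hM : IsLocalRing (N ⊗[O] N') := isLocalRing_tensor O N' N
  have hfM : Module.Finite O (N ⊗[O] N') := inferInstance
  have hnM : IsNoetherianRing (N ⊗[O] N') := IsNoetherianRing.of_finite O _
  have hMR : IsLocalRing ((N ⊗[O] N') ⊗[O] R) := isLocalRing_tensor O R (N ⊗[O] N')
  have hnMR : IsNoetherianRing ((N ⊗[O] N') ⊗[O] R) := isNoetherianRing_tensor O R (N ⊗[O] N')
  have hlh : IsLocalHom (algebraMap (N ⊗[O] N') ((N ⊗[O] N') ⊗[O] R)) :=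
    isLocalHom_left O R (N ⊗[O] N')
  have h1 := RegConn.isConnected_punctured (isRegularHom_tensor (N ⊗[O] N') h) (hc.tensor (N ⊗[O] N'))
  let e1 : (R ⊗[O] N) ⊗[R] (R ⊗[O] N') ≃+* (R ⊗[O] N) ⊗[O] N' :=
    (Algebra.TensorProduct.cancelBaseChange O R R (R ⊗[O] N) N').toRingEquiv
  let e2 : (R ⊗[O] N) ⊗[O] N' ≃+* R ⊗[O] (N ⊗[O] N') :=
    (Algebra.TensorProduct.assoc O O O R N N').toRingEquiv
  let e3 : R ⊗[O] (N ⊗[O] N') ≃+* (N ⊗[O] N') ⊗[O] R :=
    (Algebra.TensorProduct.comm O R (N ⊗[O] N')).toRingEquiv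
  let e : (R ⊗[O] N) ⊗[R] (R ⊗[O] N') ≃+* (N ⊗[O] N') ⊗[O] R := (e1.trans e2).trans e3
  have hl : IsLocalRing ((R ⊗[O] N) ⊗[R] (R ⊗[O] N')) := e.symm.isLocalRing
  refine ⟨hl, ?_⟩
  exact RegConn.isConnected_punctured_of_surjective (e : _ →+* _) e.surjective
    (PrimeSpectrum.isHomeomorph_comap_of_bijective e.bijective) h1

end Family

/-- The induction step. -/
theorem good_succ {n : ℕ} (hn : Good.{u} n) : Good.{u} (n + 1) := by
  intro O R _ _ _ _ _ _ hO hR h hc h0 hd
  have := hO.noeth
  have := hO.sep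
  have := hR.noeth
  let J : Type u := {p : PrimeSpectrum O // p.asIdeal ∈ minimalPrimes O}
  have hJf : Finite J := by
    have h1 : (minimalPrimes O).Finite := minimalPrimes.finite_of_isNoetherianRing O
    have : Finite (minimalPrimes O) := h1
    exact Finite.of_injective (fun j : J => (⟨j.1.asIdeal, j.2⟩ : minimalPrimes O))
      (fun a b hab => Subtype.ext (PrimeSpectrum.ext (congrArg Subtype.val hab)))
  have hJn : Nonempty J := by
    obtain ⟨p, hp, -⟩ := Ideal.exists_minimalPrimes_le (I := (⊥ : Ideal O)) (J := maximalIdeal O) bot_le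
    exact ⟨⟨⟨p, hp.isPrime⟩, hp⟩⟩
  have hfin : ∀ j : J, Module.Finite O (Nm O j.1) := fun j => finite_nm j.1 hO
  have hloc : ∀ j : J, IsLocalRing (Nm O j.1) := fun j => isLocalRing_nm j.1 hO
  have hic : ∀ j : J, IsIntegrallyClosed (Nm O j.1) := fun j => isIntegrallyClosed_nm j.1
  let S : J → Type u := fun j => R ⊗[O] Nm O j.1
  have hSl : ∀ j : J, IsLocalRing (S j) := fun j => isLocalRing_rtensor hO (Nm O j.1)
  have hSC : ∀ j : J, SC (S j) := fun j => SC.of_finite (A := R) hR
  have hSh : ∀ j : J, HenselianLocalRing (S j) := fun j => (hSC j).henselian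
  have hSs : ∀ j : J, IsSepClosed (ResidueField (S j)) := fun j => (hSC j).sep
  have hSi : ∀ j : J, Algebra.IsIntegral R (S j) := fun j => inferInstance
  have hpur : ∀ j : J, FEt.PurityHolds (S j) := by
    intro j
    let N := Nm O j.1
    have h1 : IsLocalRing (N ⊗[O] R) := isLocalRing_tensor O R N
    have h2 : IsLocalHom (algebraMap N (N ⊗[O] R)) := isLocalHom_left O R N
    have h3 : SC N := hO.of_finite
    have h4 : SC (N ⊗[O] R) := hR.tensor O R N
    have := h3.noeth
    have := h4.noeth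
    have h5 : ¬ ringKrullDim N ≤ 0 := by
      rw [ringKrullDim_nm]
      exact not_ringKrullDim_quotient_le_zero j.1 j.2 h0
    have h6 : ringKrullDim N ≤ (n + 1 : ℕ) := by
      rw [ringKrullDim_nm]
      exact (ringKrullDim_quotient_le _).trans hd
    exact Pi1B.PuncturedIso.purityHolds_of_ringEquiv _ _ (Algebra.TensorProduct.comm O R N).symm.toRingEquiv
      (purityHolds_of_normal hn h3 h4 (isRegularHom_tensor N h) (hc.tensor N) h5 h6)
  obtain ⟨P, hP, hle, hne⟩ := hc
  let Ω := AlgebraicClosure (P.ResidueField)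
  let ψ₀ : R →+* Ω := (algebraMap (P.ResidueField) Ω).comp (algebraMap R P.ResidueField)
  have hψ₀ : RingHom.ker ψ₀ = P := by
    ext r
    rw [RingHom.mem_ker]
    change algebraMap (P.ResidueField) Ω (algebraMap R P.ResidueField r) = 0 ↔ _
    rw [map_eq_zero_iff _ (algebraMap (P.ResidueField) Ω).injective]
    exact Ideal.algebraMap_residueField_eq_zero
  have hex : ∀ j : J, ∃ ψ : S j →+* Ω, ψ.comp (algebraMap R (S j)) = ψ₀ := by
    intro j
    obtain ⟨θ, hθ, -⟩ := exists_point (O' := Nm O j.1) ψ₀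
      (map_maximalIdeal_eq_zero_of_residue O R ψ₀ (by rwa [hψ₀]))
    refine ⟨θ.comp (Algebra.TensorProduct.comm O R (Nm O j.1)).toRingEquiv.toRingHom, ?_⟩
    ext r
    exact hθ r
  choose ψ hψ using hex
  refine DescPurity.purityHolds_of_family S hpur (fun x => ?_)
    (fun j k => isConnected_punctured_tensor hO hR h ⟨P, hP, hle, hne⟩ (Nm O j.1) (Nm O k.1)) ψ
    (fun j k => (hψ j).trans (hψ k).symm) (fun j hker => hne ?_)
  · obtain ⟨p, hp, hpx⟩ := Ideal.exists_minimalPrimes_le (I := (⊥ : Ideal O))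
      (J := (x.comap (algebraMap O R)).asIdeal) bot_le
    obtain ⟨y, hy⟩ := exists_comap_nm (⟨p, hp.isPrime⟩ : PrimeSpectrum O)
      (x := x.comap (algebraMap O R)) hpx
    obtain ⟨z, hz⟩ := exists_prime_tensor O R (Nm O ⟨p, hp.isPrime⟩) x y hy.symm
    exact ⟨⟨⟨p, hp.isPrime⟩, hp⟩, z, hz⟩
  · have h1 : ((maximalIdeal (S j)).comap (algebraMap R (S j))).IsMaximal :=
      Ideal.isMaximal_comap_of_isIntegral_of_isMaximal _
    have h2 := IsLocalRing.eq_maximalIdeal h1
    rw [← hker] at h2
    have h3 : (RingHom.ker (ψ j)).comap (algebraMap R (S j)) = RingHom.ker ψ₀ := by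
      rw [← hψ j]
      rfl
    exact hψ₀.symm.trans (h3.symm.trans h2)

theorem good (n : ℕ) : Good.{u} n := by
  induction n with
  | zero =>
    intro O R _ _ _ _ _ _ hO hR h hc h0 hd
    exact absurd (by exact_mod_cast hd) h0
  | succ n ih => exact good_succ ih

/-- **Purity over complete local bases**: a regular local homomorphism of complete Noetherian local
rings with separably closed residue fields, with positive-dimensional closed fibre, over a base of
positive dimension. -/
theorem purityHolds {O R : Type u} [CommRing O] [IsLocalRing O] [CommRing R] [IsLocalRing R]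
    [Algebra O R] [IsLocalHom (algebraMap O R)] (hO : SC O) (hR : SC R) (h : CAlg.IsRegularHom O R)
    (hc : C1 O R) (h0 : ¬ ringKrullDim O ≤ 0) : FEt.PurityHolds R := by
  have := hO.noeth
  obtain ⟨n, hn⟩ := Ega4C.FlatLocal.exists_ringKrullDim_eq (R := O)
  exact good n O R hO hR h hc h0 hn.le

end Groth.Agent.Pi1.H395.PurityComplete
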