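import Groth.Agent.Pi1.H395.RegConn
import Groth.Agent.Sga4B.PurityStep
import Groth.Agent.S0247
import Groth.Agent.Pi1B.PuncturedIso
import Groth.Agent.CalgA.SerreLocal

/-!
# Purity for regular local homomorphisms: bases of dimension zero, and normal bases
-/

set_option autoImplicit false
set_option linter.unusedSectionVars false
universe u

open IsLocalRing TensorProduct

namespace Groth.Agent.Pi1.H395.PurityNormal

open RegClass

/-- Purity for all regular local homomorphisms with positive-dimensional closed fibre over complete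
bases of dimension between `1` and `n`. -/
def Good (n : ℕ) : Prop := ∀ (O R : Type u) [CommRing O] [IsLocalRing O] [CommRing R] [IsLocalRing R]
  [Algebra O R] [IsLocalHom (algebraMap O R)], SC O → SC R → CAlg.IsRegularHom O R → C1 O R →
    ¬ ringKrullDim O ≤ 0 → ringKrullDim O ≤ n → FEt.PurityHolds R

variable {O R : Type u} [CommRing O] [IsLocalRing O] [IsNoetherianRing O] [CommRing R] [IsLocalRing R]
  [IsNoetherianRing R] [Algebra O R] [IsLocalHom (algebraMap O R)]

/-- Purity over a base of dimension zero, when the closed fibre has dimension at least two. -/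
theorem purityHolds_of_dim_zero (h : CAlg.IsRegularHom O R) (h0 : ringKrullDim O ≤ 0)
    (h2 : 2 ≤ ringKrullDim (EGA4.FibRing O R)) : FEt.PurityHolds R := by
  have h1 := isRegularLocalRing_fibRing O R h
  have hdim : Ring.KrullDimLE 0 O := Ring.krullDimLE_iff.2 (by exact_mod_cast h0)
  refine Sga4B.PurityStep.purityHolds_of_nilpotent (Ideal.Quotient.mk (EGA4.mB O R))
    Ideal.Quotient.mk_surjective (fun x hx => ?_) (Groth.Agent.S0247.result (EGA4.FibRing O R) h2)
  rw [Ideal.Quotient.eq_zero_iff_mem] at hx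
  have h3 : EGA4.mB O R ≤ nilradical R := by
    rw [EGA4.mB, Ideal.map_le_iff_le_comap]
    intro a ha
    have h4 : IsNilpotent a := by
      have h5 : nilradical O = maximalIdeal O := Ring.KrullDimLE.nilradical_eq_maximalIdeal O
      rw [← mem_nilradical, h5]
      exact ha
    rw [Ideal.mem_comap, mem_nilradical]
    exact h4.map _
  exact h3 hx

/-- A discrete valuation base. -/
theorem purityHolds_of_normal_dim_one [IsDomain O] [IsIntegrallyClosed O] (h : CAlg.IsRegularHom O R)
    (hc : C1 O R) (h0 : ¬ ringKrullDim O ≤ 0) (h1 : ringKrullDim O ≤ 1) : FEt.PurityHolds R := by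
  have hO : IsRegularLocalRing O := CalgA.SerreLocal.isRegularLocalRing_of_isIntegrallyClosed h1
  have hfib := isRegularLocalRing_fibRing O R h
  have hfl : Module.Flat O R := h.1
  have hR : IsRegularLocalRing R := CalgB.RegHom1.isRegularLocalRing_of_flat_of_fiber hfib
  refine Groth.Agent.S0247.result R ?_
  have hd := Ega4C.FlatLocal.ringKrullDim_eq O R
  obtain ⟨a, ha⟩ := Ega4C.FlatLocal.exists_ringKrullDim_eq (R := O)
  obtain ⟨b, hb⟩ := Ega4C.FlatLocal.exists_ringKrullDim_eq (R := EGA4.FibRing O R)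
  have hb' := not_ringKrullDim_fibRing_le_zero hc
  rw [hd, ha, hb]
  rw [ha] at h0
  rw [hb] at hb'
  norm_cast at h0 hb' ⊢
  omega

/-- Cutting by an element of the base. -/
theorem purityHolds_of_normal_dim_two {n : ℕ} (hn : Good.{u} n) [IsDomain O] [IsIntegrallyClosed O]
    (hO : SC O) (hR : SC R) (h : CAlg.IsRegularHom O R) (hc : C1 O R) (h1 : ¬ ringKrullDim O ≤ 1)
    (hd : ringKrullDim O ≤ (n + 1 : ℕ)) : FEt.PurityHolds R := by
  have hfl : Module.Flat O R := h.1
  obtain ⟨a, ha⟩ := Ega4C.FlatLocal.exists_ringKrullDim_eq (R := O)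
  have hnf : ¬ IsField O := by
    intro hf
    have : ringKrullDim O = 0 := ringKrullDim_eq_zero_of_isField hf
    rw [this] at h1
    exact h1 zero_le_one
  obtain ⟨t, htm, ht0⟩ : ∃ t ∈ maximalIdeal O, t ≠ 0 := by
    have hne : maximalIdeal O ≠ ⊥ := fun hb => hnf (IsLocalRing.isField_iff_maximalIdeal_eq.2 hb)
    exact Submodule.exists_mem_ne_zero_of_ne_bot hne
  let I : Ideal O := Ideal.span {t}
  have hI : I ≤ maximalIdeal O := (Ideal.span_singleton_le_iff_mem _).2 htm
  have hnt : Nontrivial (O ⧸ I) := Ideal.Quotient.nontrivial_iff.2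
    (fun h => (maximalIdeal.isMaximal O).ne_top (top_le_iff.1 (h ▸ hI)))
  have hl₁ : IsLocalRing (O ⧸ I) :=
    IsLocalRing.of_surjective' (Ideal.Quotient.mk _) Ideal.Quotient.mk_surjective
  have hdim : ringKrullDim (O ⧸ I) + 1 = ringKrullDim O :=
    ringKrullDim_quotient_span_singleton_succ_eq_ringKrullDim_of_mem_jacobson
      (fun x y hxy => mul_left_cancel₀ ht0 hxy) (by rwa [IsLocalRing.ringJacobson_eq_maximalIdeal])
  obtain ⟨b, hb⟩ := Ega4C.FlatLocal.exists_ringKrullDim_eq (R := O ⧸ I)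
  have hsep := hO.sep
  have hlT : IsLocalRing ((O ⧸ I) ⊗[O] R) := isLocalRing_tensor O R (O ⧸ I)
  have hlh : IsLocalHom (algebraMap (O ⧸ I) ((O ⧸ I) ⊗[O] R)) := isLocalHom_left O R (O ⧸ I)
  have hp : FEt.PurityHolds ((O ⧸ I) ⊗[O] R) := by
    refine hn (O ⧸ I) ((O ⧸ I) ⊗[O] R) hO.of_finite (hR.tensor O R (O ⧸ I))
      (isRegularHom_tensor (O ⧸ I) h) (hc.tensor (O ⧸ I)) ?_ ?_
    · rw [hb]
      rw [ha, hb] at hdim
      rw [ha] at h1
      norm_cast at hdim h1 ⊢
      omega
    · rw [hb]
      rw [ha, hb] at hdim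
      rw [ha] at hd
      norm_cast at hdim hd ⊢
      omega
  let t' : R := algebraMap O R t
  have ht' : t' ∈ maximalIdeal R := by
    have := Ega4C.FlatLocal.map_le (R := O) (S := R) hI
    exact this (Ideal.mem_map_of_mem _ (Ideal.mem_span_singleton_self t))
  let e : R ⧸ Ideal.span {t'} ≃+* (O ⧸ I) ⊗[O] R :=
    (Ideal.quotEquivOfEq (by rw [Ideal.map_span, Set.image_singleton])).trans
      (Algebra.TensorProduct.quotIdealMapEquivQuotTensor R I).toRingEquiv
  have hlq : IsLocalRing (R ⧸ Ideal.span {t'}) := e.symm.isLocalRing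
  have hpq : FEt.PurityHolds (R ⧸ Ideal.span {t'}) :=
    Pi1B.PuncturedIso.purityHolds_of_ringEquiv _ _ e.symm hp
  refine Sga4B.PurityStep.purityHolds_of_quotient_span_singleton R t' ht' ?_ hpq
  have hd1 : 2 ≤ LocCoh.depth O O := CalgA.SerreLocal.two_le_depth_of_isIntegrallyClosed h1
  have hd2 := one_le_depth_fibRing O R h hc
  have h3 := Ega4C.FlatLocal.depth_eq O R
  rw [h3]
  have h4 : (3 : ℕ∞) = 2 + 1 := by norm_num
  rw [h4]
  exact add_le_add hd1 hd2

/-- Normal bases. -/
theorem purityHolds_of_normal {n : ℕ} (hn : Good.{u} n) [IsDomain O] [IsIntegrallyClosed O]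
    (hO : SC O) (hR : SC R) (h : CAlg.IsRegularHom O R) (hc : C1 O R) (h0 : ¬ ringKrullDim O ≤ 0)
    (hd : ringKrullDim O ≤ (n + 1 : ℕ)) : FEt.PurityHolds R := by
  by_cases h1 : ringKrullDim O ≤ 1
  · exact purityHolds_of_normal_dim_one h hc h0 h1
  · exact purityHolds_of_normal_dim_two hn hO hR h hc h1 hd

end Groth.Agent.Pi1.H395.PurityNormal
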