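import Groth.Agent.S2038
import Groth.Agent.S0558
import Groth.Agent.CalgB.RegHom8
import Groth.Agent.CalgA.SerreCrit
import Groth.Agent.Ega4C.FlatLocal
import Groth.Agent.Ega4C.CplFinite
import Groth.Agent.Ega4C.LocusFibre
import Groth.Agent.Etrest.IntTensor
import Mathlib.FieldTheory.PurelyInseparable.Basic

/-!
# Regular local homomorphisms over complete local rings with separably closed residue field

Stability of regular local homomorphisms under finite base change.
-/

set_option autoImplicit false
set_option linter.unusedSectionVars false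
universe u

open IsLocalRing TensorProduct

namespace Groth.Agent.Pi1.H395.RegClass

/-- Complete Noetherian local rings with separably closed residue field. -/
structure SC (A : Type u) [CommRing A] [IsLocalRing A] : Prop where
  noeth : IsNoetherianRing A
  complete : IsAdicComplete (maximalIdeal A) A
  sep : IsSepClosed (ResidueField A)

theorem isLocalHom_of_finite (A B : Type*) [CommRing A] [CommRing B] [IsLocalRing A] [IsLocalRing B]
    [Algebra A B] [Algebra.IsIntegral A B] : IsLocalHom (algebraMap A B) := by
  have h : ((maximalIdeal B).comap (algebraMap A B)).IsMaximal :=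
    Ideal.isMaximal_comap_of_isIntegral_of_isMaximal _
  exact ((IsLocalRing.local_hom_TFAE (algebraMap A B)).out 0 4 rfl rfl).mpr (IsLocalRing.eq_maximalIdeal h)

theorem isSepClosed_of_finite (A B : Type*) [CommRing A] [CommRing B] [IsLocalRing A] [IsLocalRing B]
    [Algebra A B] [Module.Finite A B] [IsSepClosed (ResidueField A)] : IsSepClosed (ResidueField B) := by
  have := isLocalHom_of_finite A B
  exact Algebra.IsAlgebraic.isSepClosed (F := ResidueField A)

theorem SC.of_finite {A B : Type u} [CommRing A] [CommRing B] [IsLocalRing A] [IsLocalRing B]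
    [Algebra A B] [Module.Finite A B] (h : SC A) : SC B := by
  have := h.noeth
  have := h.complete
  have := h.sep
  exact ⟨IsNoetherianRing.of_finite A B, Ega4C.CplFinite.isAdicComplete_of_finite A B,
    isSepClosed_of_finite A B⟩

theorem SC.henselian {A : Type u} [CommRing A] [IsLocalRing A] (h : SC A) : HenselianLocalRing A := by
  have := h.complete
  have : HenselianRing A (maximalIdeal A) := inferInstance
  exact { is_henselian := fun f hf a₀ h1 h2 => HenselianRing.is_henselian f hf a₀ h1 (by
            rw [← IsLocalRing.residue_ne_zero_iff_isUnit] at h2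
            exact isUnit_iff_ne_zero.2 h2) }

section Points

variable {O O' : Type u} [CommRing O] [IsLocalRing O] [CommRing O'] [IsLocalRing O'] [Algebra O O']
  [Module.Finite O O'] {Ω : Type u} [Field Ω] [IsAlgClosed Ω]

/-- A geometric point of `Spec O` at the closed point lifts to `Spec O'`. -/
theorem exists_ringHom (χ : O →+* Ω) (hχ : maximalIdeal O ≤ RingHom.ker χ) :
    ∃ φ : O' →+* Ω, φ.comp (algebraMap O O') = χ ∧ RingHom.ker φ = maximalIdeal O' := by
  have hloc : IsLocalHom (algebraMap O O') := isLocalHom_of_finite O O'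
  have hker : RingHom.ker χ = maximalIdeal O :=
    le_antisymm (IsLocalRing.le_maximalIdeal (RingHom.ker_ne_top χ)) hχ
  have hχl : IsLocalHom χ := ⟨fun a ha => by
    by_contra hcon
    have h1 : a ∈ RingHom.ker χ := hχ hcon
    rw [RingHom.mem_ker] at h1
    rw [h1] at ha
    exact not_isUnit_zero ha⟩
  let χ' : ResidueField O →+* Ω := ResidueField.lift χ
  let _ : Algebra (ResidueField O) Ω := χ'.toAlgebra
  have : Algebra.IsAlgebraic (ResidueField O) (ResidueField O') := inferInstance
  let ρ : ResidueField O' →ₐ[ResidueField O] Ω := IsAlgClosed.lift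
  refine ⟨(ρ : ResidueField O' →+* Ω).comp (residue O'), ?_, ?_⟩
  · ext a
    change ρ (residue O' (algebraMap O O' a)) = χ a
    have h1 : residue O' (algebraMap O O' a) = algebraMap (ResidueField O) (ResidueField O') (residue O a) :=
      rfl
    rw [h1, ρ.commutes]
    rfl
  · ext a
    rw [RingHom.mem_ker]
    change ρ (residue O' a) = 0 ↔ _
    rw [map_eq_zero, residue_eq_zero_iff]

variable {R : Type u} [CommRing R] [Algebra O R]

/-- A geometric point of `Spec R` over the closed point of `Spec O` lifts to `Spec (O' ⊗ R)`. -/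
theorem exists_point (ψ : R →+* Ω) (hψ : maximalIdeal O ≤ RingHom.ker (ψ.comp (algebraMap O R))) :
    ∃ θ : O' ⊗[O] R →+* Ω, (∀ r, θ (1 ⊗ₜ r) = ψ r) ∧ ∀ a ∈ maximalIdeal O', θ (a ⊗ₜ 1) = 0 := by
  obtain ⟨φ, hφ, hφm⟩ := exists_ringHom (O' := O') (ψ.comp (algebraMap O R)) hψ
  let _ : Algebra O Ω := (ψ.comp (algebraMap O R)).toAlgebra
  let φ' : O' →ₐ[O] Ω := { φ with commutes' := fun r => congr($hφ r) }
  let ψ' : R →ₐ[O] Ω := { ψ with commutes' := fun r => rfl }
  let θ := Algebra.TensorProduct.lift φ' ψ' (fun _ _ => Commute.all _ _)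
  refine ⟨θ.toRingHom, fun r => ?_, fun a ha => ?_⟩
  · change θ (1 ⊗ₜ r) = _
    rw [Algebra.TensorProduct.lift_tmul, map_one, one_mul]
    rfl
  · change θ (a ⊗ₜ 1) = _
    rw [Algebra.TensorProduct.lift_tmul, map_one, mul_one]
    rw [← hφm] at ha
    exact ha

end Points

section Closed

variable (O R : Type u) [CommRing O] [IsLocalRing O] [CommRing R] [IsLocalRing R] [Algebra O R]

/-- The closed fibre has positive dimension: there is a prime of `R` over the closed point of `Spec O`
different from the closed point. -/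
def C1 : Prop := ∃ P : Ideal R, P.IsPrime ∧ EGA4.mB O R ≤ P ∧ P ≠ maximalIdeal R

variable [IsNoetherianRing R] [IsLocalHom (algebraMap O R)]

/-- The closed fibre of a regular local homomorphism is a regular local ring. -/
theorem isRegularLocalRing_fibRing (h : CAlg.IsRegularHom O R) :
    IsRegularLocalRing (EGA4.FibRing O R) := by
  have h3 := Ega4C.LocusFibre.isRegularRing_of_isGeometricallyRegular _ _ (h.2 (maximalIdeal O)).2
  have h4 : IsRegularRing (EGA4.FibRing O R) := IsRegularRing.of_ringEquiv
    (Groth.Agent.S2038.fibreEquiv O R)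
  exact IsRegularLocalRing.of_isRegularRing_of_isLocalRing _

variable {O R} in
omit [IsNoetherianRing R] in
theorem not_ringKrullDim_fibRing_le_zero (hc : C1 O R) : ¬ ringKrullDim (EGA4.FibRing O R) ≤ 0 := by
  intro h
  have h0 : Ring.KrullDimLE 0 (EGA4.FibRing O R) := Ring.krullDimLE_iff.2 (by exact_mod_cast h)
  obtain ⟨P, hP, hle, hne⟩ := hc
  have hP' : (P.map (Ideal.Quotient.mk (EGA4.mB O R))).IsPrime :=
    Ideal.map_isPrime_of_surjective Ideal.Quotient.mk_surjective (by rwa [Ideal.mk_ker])
  have hmax : (P.map (Ideal.Quotient.mk (EGA4.mB O R))).IsMaximal := Ideal.IsPrime.isMaximal' hP'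
  have h2 : (P.map (Ideal.Quotient.mk (EGA4.mB O R))).comap (Ideal.Quotient.mk (EGA4.mB O R)) = P := by
    rw [Ideal.comap_map_of_surjective _ Ideal.Quotient.mk_surjective, ← RingHom.ker_eq_comap_bot,
      Ideal.mk_ker, sup_eq_left.2 hle]
  have h3 : P.IsMaximal := by
    rw [← h2]
    exact Ideal.comap_isMaximal_of_surjective _ Ideal.Quotient.mk_surjective
  exact hne (IsLocalRing.eq_maximalIdeal h3)

theorem one_le_depth_fibRing (h : CAlg.IsRegularHom O R) (hc : C1 O R) :
    1 ≤ LocCoh.depth (EGA4.FibRing O R) (EGA4.FibRing O R) := by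
  have h1 := isRegularLocalRing_fibRing O R h
  have h2 : IsDomain (EGA4.FibRing O R) := Groth.Agent.S0558.result _
  exact CalgA.SerreCrit.one_le_depth_of_isReduced (not_ringKrullDim_fibRing_le_zero hc)

end Closed

section BaseChange

variable (O R O' : Type u) [CommRing O] [IsLocalRing O] [CommRing R] [IsLocalRing R] [Algebra O R]
  [IsLocalHom (algebraMap O R)] [CommRing O'] [IsLocalRing O'] [Algebra O O'] [Module.Finite O O']

omit [IsLocalRing R] [IsLocalHom (algebraMap O R)] in
theorem map_maximalIdeal_eq_zero_of_residue [IsLocalRing R] [IsLocalHom (algebraMap O R)] {Ω : Type u}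
    [Field Ω] (ψ : R →+* Ω) (h : EGA4.mB O R ≤ RingHom.ker ψ) :
    maximalIdeal O ≤ RingHom.ker (ψ.comp (algebraMap O R)) := by
  intro a ha
  exact h (Ideal.mem_map_of_mem _ ha)

theorem nontrivial_tensor : Nontrivial (O' ⊗[O] R) := by
  let Ω := AlgebraicClosure (ResidueField R)
  let ψ : R →+* Ω := (algebraMap (ResidueField R) Ω).comp (residue R)
  obtain ⟨θ, -, -⟩ := exists_point (O' := O') ψ (map_maximalIdeal_eq_zero_of_residue O R ψ (by
    refine (IsLocalRing.map_maximalIdeal_le _).trans ?_
    intro r hr
    change algebraMap (ResidueField R) Ω (residue R r) = 0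
    rw [(residue_eq_zero_iff r).2 hr, map_zero]))
  exact θ.domain_nontrivial

theorem isLocalRing_tensor [IsSepClosed (ResidueField O)] : IsLocalRing (O' ⊗[O] R) := by
  have := isLocalHom_of_finite O O'
  have := nontrivial_tensor O R O'
  exact Etrest.IntTensor.isLocalRing_tensor O O' R

attribute [local instance] Algebra.TensorProduct.rightAlgebra in
theorem finite_right : Module.Finite R (O' ⊗[O] R) :=
  Module.Finite.equiv (Algebra.TensorProduct.commRight O R O').toLinearEquiv

variable [IsLocalRing (O' ⊗[O] R)]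

theorem isLocalHom_left : IsLocalHom (algebraMap O' (O' ⊗[O] R)) := by
  let Ω := AlgebraicClosure (ResidueField R)
  let ψ : R →+* Ω := (algebraMap (ResidueField R) Ω).comp (residue R)
  obtain ⟨θ, -, h⟩ := exists_point (O' := O') ψ (map_maximalIdeal_eq_zero_of_residue O R ψ (by
    refine (IsLocalRing.map_maximalIdeal_le _).trans ?_
    intro r hr
    change algebraMap (ResidueField R) Ω (residue R r) = 0
    rw [(residue_eq_zero_iff r).2 hr, map_zero]))
  refine ⟨fun a ha => ?_⟩
  by_contra hcon
  have h1 : θ (algebraMap O' (O' ⊗[O] R) a) = 0 := h a hcon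
  have h2 := ha.map θ
  rw [h1] at h2
  exact not_isUnit_zero h2

attribute [local instance] Algebra.TensorProduct.rightAlgebra in
theorem SC.tensor (h : SC R) : SC (O' ⊗[O] R) := by
  have := finite_right O R O'
  exact SC.of_finite (A := R) h

attribute [local instance] Algebra.TensorProduct.rightAlgebra in
theorem isNoetherianRing_tensor [IsNoetherianRing R] : IsNoetherianRing (O' ⊗[O] R) := by
  have := finite_right O R O'
  exact IsNoetherianRing.of_finite R _

variable {O R} in
omit [IsLocalRing R] [IsLocalHom (algebraMap O R)] [IsLocalRing O] [IsLocalRing O']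
  [IsLocalRing (O' ⊗[O] R)] in
theorem isRegularHom_tensor (h : CAlg.IsRegularHom O R) : CAlg.IsRegularHom O' (O' ⊗[O] R) :=
  CalgB.RegHom6.isRegularHom_baseChange O' h

variable {O R} in
attribute [local instance] Algebra.TensorProduct.rightAlgebra in
theorem C1.tensor (h : C1 O R) : C1 O' (O' ⊗[O] R) := by
  obtain ⟨P, hP, hle, hne⟩ := h
  let Ω := AlgebraicClosure (P.ResidueField)
  let ψ : R →+* Ω := (algebraMap (P.ResidueField) Ω).comp (algebraMap R P.ResidueField)
  have hψ : RingHom.ker ψ = P := by
    ext r
    rw [RingHom.mem_ker]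
    change algebraMap (P.ResidueField) Ω (algebraMap R P.ResidueField r) = 0 ↔ _
    rw [map_eq_zero_iff _ (algebraMap (P.ResidueField) Ω).injective]
    exact Ideal.algebraMap_residueField_eq_zero
  obtain ⟨θ, hθ, hθm⟩ := exists_point (O' := O') ψ (map_maximalIdeal_eq_zero_of_residue O R ψ (by rwa [hψ]))
  refine ⟨RingHom.ker θ, RingHom.ker_isPrime θ, ?_, ?_⟩
  · rw [EGA4.mB, Ideal.map_le_iff_le_comap]
    intro a ha
    exact hθm a ha
  · intro hcon
    have hfin := finite_right O R O'
    have h1 : ((maximalIdeal (O' ⊗[O] R)).comap (algebraMap R (O' ⊗[O] R))).IsMaximal :=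
      Ideal.isMaximal_comap_of_isIntegral_of_isMaximal _
    have h2 := IsLocalRing.eq_maximalIdeal h1
    rw [← hcon] at h2
    apply hne
    have h4 : (RingHom.ker θ).comap (algebraMap R (O' ⊗[O] R)) = RingHom.ker ψ := by
      ext r
      rw [RingHom.mem_ker, Ideal.mem_comap, RingHom.mem_ker]
      have h3 : θ (algebraMap R (O' ⊗[O] R) r) = ψ r := hθ r
      rw [h3]
    exact hψ.symm.trans (h4.symm.trans h2)

end BaseChange

end Groth.Agent.Pi1.H395.RegClass
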