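import Groth.Agent.UnramA.GRingCpl
import Groth.Agent.Ega4A.CplQuot
import Groth.Agent.S2038
import Groth.Agent.S2039
import Groth.Agent.Pi1.H395.RegClass

/-!
# The completion of a regular local homomorphism is regular

* `isRegularHom_cpl`: for a local homomorphism `R → S` of Noetherian local rings, flat with geometrically
  regular closed fibre (for instance a regular homomorphism), the map on completions is regular.
* `sc_cpl`: the completion of a Noetherian local ring with separably closed residue field belongs to `SC`.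
-/

set_option autoImplicit false
set_option linter.unusedSectionVars false
universe u

open IsLocalRing

namespace Groth.Agent.Pi1.H395.RegCpl

open Groth.Agent.UnramA.GRingCpl RegClass

section

variable (R S : Type u) [CommRing R] [IsLocalRing R] [IsNoetherianRing R] [CommRing S]
  [IsLocalRing S] [IsNoetherianRing S] [Algebra R S] [IsLocalHom (algebraMap R S)]

/-- The completion of a local homomorphism which is formally smooth for the adic topology is formally
smooth for the adic topology. -/
theorem isAdicFormallySmooth_cpl (hfs : CAlgX.IsAdicFormallySmooth R S (maximalIdeal S))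
    [Algebra (Cpl R) (Cpl S)] (halg : algebraMap (Cpl R) (Cpl S) = cplMap R S) :
    CAlgX.IsAdicFormallySmooth (Cpl R) (Cpl S) (maximalIdeal (Cpl S)) := by
  intro A _ _ J hJ ψ hψ
  obtain ⟨k, hk⟩ := hψ
  let : Algebra R A := ((algebraMap (Cpl R) A).comp (algebraMap R (Cpl R))).toAlgebra
  have : IsScalarTower R (Cpl R) A := IsScalarTower.of_algebraMap_eq' rfl
  have hJ2 : J * J = ⊥ := by rw [← pow_two]; exact hJ
  -- the map on `S`
  let f : S →ₐ[R] A ⧸ J :=
    { (ψ : Cpl S →+* A ⧸ J).comp (algebraMap S (Cpl S)) with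
      commutes' := fun r => by
        change ψ (algebraMap S (Cpl S) (algebraMap R S r)) = _
        rw [← cplMap_algebraMap, ← halg, ψ.commutes]
        rfl }
  have hf : ∀ s, f s = ψ (algebraMap S (Cpl S) s) := fun s => rfl
  have hf0 : ∀ s ∈ maximalIdeal S ^ k, f s = 0 := by
    intro s hs
    rw [hf]
    apply hk
    rw [AdicCompletion.maximalIdeal_eq_map, ← Ideal.map_pow]
    exact Ideal.mem_map_of_mem _ hs
  obtain ⟨g, hg⟩ := hfs A J hJ f ⟨k, hf0⟩
  have hg' : ∀ s, Ideal.Quotient.mk J (g s) = f s := fun s => DFunLike.congr_fun hg s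
  -- `g` kills `m ^ (k + k)`
  have hgJ : ∀ s ∈ maximalIdeal S ^ k, g s ∈ J := by
    intro s hs
    rw [← Ideal.Quotient.eq_zero_iff_mem, hg']
    exact hf0 s hs
  have hg0 : ∀ s ∈ maximalIdeal S ^ (k + k), (g : S →+* A) s = 0 := by
    intro s hs
    have h1 : (maximalIdeal S ^ (k + k)).map (g : S →+* A) ≤ ⊥ := by
      rw [pow_add, Ideal.map_mul, ← hJ2]
      exact Ideal.mul_mono (Ideal.map_le_iff_le_comap.mpr hgJ)
        (Ideal.map_le_iff_le_comap.mpr hgJ)
    exact (Ideal.mem_bot).mp (h1 (Ideal.mem_map_of_mem _ hs))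
  let χ : Cpl S →+* A := (Ideal.Quotient.lift (maximalIdeal S ^ (k + k)) (g : S →+* A) hg0).comp
    (AdicCompletion.evalₐ (maximalIdeal S) (k + k)).toRingHom
  have hχ : ∀ y s, AdicCompletion.evalₐ (maximalIdeal S) (k + k) y = Ideal.Quotient.mk _ s →
      χ y = g s := by
    intro y s h
    change Ideal.Quotient.lift (maximalIdeal S ^ (k + k)) (g : S →+* A) hg0
      (AdicCompletion.evalₐ (maximalIdeal S) (k + k) y) = _
    rw [h]
    rfl
  -- the structure map of `A` kills a power of the maximal ideal
  have hA : ∀ x ∈ maximalIdeal (Cpl R) ^ (k + k), algebraMap (Cpl R) A x = 0 := by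
    intro x hx
    have h1 : (maximalIdeal (Cpl R) ^ k).map (algebraMap (Cpl R) A) ≤ J := by
      rw [Ideal.map_le_iff_le_comap]
      intro z hz
      rw [Ideal.mem_comap, ← Ideal.Quotient.eq_zero_iff_mem]
      have h2 : Ideal.Quotient.mk J (algebraMap (Cpl R) A z) =
          ψ (algebraMap (Cpl R) (Cpl S) z) := (ψ.commutes z).symm
      rw [h2]
      apply hk
      rw [halg]
      refine Ideal.pow_right_mono (map_cplMap R S) k ?_
      rw [← Ideal.map_pow]
      exact Ideal.mem_map_of_mem _ hz
    have h2 : (maximalIdeal (Cpl R) ^ (k + k)).map (algebraMap (Cpl R) A) ≤ ⊥ := by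
      rw [pow_add, Ideal.map_mul, ← hJ2]
      exact Ideal.mul_mono h1 h1
    exact (Ideal.mem_bot).mp (h2 (Ideal.mem_map_of_mem _ hx))
  refine ⟨{ χ with commutes' := fun r => ?_ }, ?_⟩
  · obtain ⟨a, ha, ha'⟩ := exists_eval_eq R (k + k) r
    change χ (algebraMap (Cpl R) (Cpl S) r) = _
    rw [halg, hχ _ _ (eval_cplMap R S (k + k) r a ha), AlgHom.commutes]
    have h1 := hA _ ha'
    rw [map_sub, sub_eq_zero] at h1
    rw [h1]
    rfl
  · ext y
    obtain ⟨s, hs, hs'⟩ := exists_eval_eq S (k + k) y
    change Ideal.Quotient.mk J (χ y) = ψ y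
    rw [hχ _ _ hs, hg', hf]
    have h1 := hk _ (Ideal.pow_le_pow_right (Nat.le_add_left k k) hs')
    rw [map_sub, sub_eq_zero] at h1
    exact h1.symm

/-- The completion of a regular local homomorphism is regular. -/
theorem isRegularHom_cpl (h : CAlg.IsRegularHom R S) [Algebra (Cpl R) (Cpl S)]
    (halg : algebraMap (Cpl R) (Cpl S) = cplMap R S) : CAlg.IsRegularHom (Cpl R) (Cpl S) := by
  have h1 : CAlgX.IsAdicFormallySmooth R S (maximalIdeal S) :=
    Groth.Agent.S2038.result.1 ⟨h.1, (h.2 (maximalIdeal R)).2⟩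
  have hloc : IsLocalHom (algebraMap (Cpl R) (Cpl S)) := by
    rw [halg]
    infer_instance
  have h2 : IsNoetherianRing (Cpl R) := Groth.Agent.S0543.result _ _
  have h3 : IsNoetherianRing (Cpl S) := Groth.Agent.S0543.result _ _
  have h4 : IsAdicComplete (maximalIdeal (Cpl R)) (Cpl R) := inferInstance
  exact Groth.Agent.S2039.result.2 (isAdicFormallySmooth_cpl R S h1 halg)

end

/-- The completion of a Noetherian local ring with separably closed residue field. -/
theorem sc_cpl (R : Type u) [CommRing R] [IsLocalRing R] [IsNoetherianRing R]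
    [IsSepClosed (ResidueField R)] : SC (Cpl R) := by
  refine ⟨Groth.Agent.S0543.result _ _, inferInstance, ?_⟩
  have hloc : IsLocalHom (algebraMap R (Cpl R)) := inferInstance
  have hb : Function.Bijective (ResidueField.map (algebraMap R (Cpl R))) :=
    AdicCompletion.residueField_map_bijective R
  have h1 : Algebra.IsIntegral (ResidueField R) (ResidueField (Cpl R)) :=
    Algebra.isIntegral_of_surjective hb.2
  exact Algebra.IsAlgebraic.isSepClosed (F := ResidueField R)

end Groth.Agent.Pi1.H395.RegCpl
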