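import Groth.Agent.Pi1.H395.PurityComplete
import Groth.Agent.Pi1.H395.RegCpl
import Groth.Agent.S0272

/-!
# Purity for regular local homomorphisms (separably closed residue fields)
-/

set_option autoImplicit false
set_option linter.unusedSectionVars false
universe u

open IsLocalRing TensorProduct AlgebraicGeometry CategoryTheory

namespace Groth.Agent.Pi1.H395.PurityReg

open RegClass PurityNormal PurityComplete RegCpl Groth.Agent.UnramA.GRingCpl

section

variable {O R : Type u} [CommRing O] [IsLocalRing O] [CommRing R] [IsLocalRing R] [Algebra O R]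
  [IsLocalHom (algebraMap O R)]

theorem c1_of_not_le_zero (h : ¬ ringKrullDim (EGA4.FibRing O R) ≤ 0) : C1 O R := by
  by_contra hcon
  apply h
  have h5 : Ring.KrullDimLE 0 (EGA4.FibRing O R) := by
    refine Ring.KrullDimLE.mk₀ fun I hI => ?_
    by_contra hm
    apply hcon
    refine ⟨I.comap (Ideal.Quotient.mk (EGA4.mB O R)), hI.comap _, ?_, ?_⟩
    · intro x hx
      rw [Ideal.mem_comap, Ideal.Quotient.eq_zero_iff_mem.2 hx]
      exact I.zero_mem
    · intro heq
      apply hm
      have h1 : (I.comap (Ideal.Quotient.mk (EGA4.mB O R))).IsMaximal := heq ▸ inferInstance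
      have h2 := Ideal.map_eq_top_or_isMaximal_of_surjective (Ideal.Quotient.mk (EGA4.mB O R))
        Ideal.Quotient.mk_surjective h1
      rw [Ideal.map_comap_of_surjective _ Ideal.Quotient.mk_surjective] at h2
      exact h2.resolve_left hI.ne_top
  have := Ring.krullDimLE_iff.1 h5
  exact_mod_cast this

end

variable {A B : Type u} [CommRing A] [IsLocalRing A] [IsNoetherianRing A] [CommRing B]
  [IsLocalRing B] [IsNoetherianRing B] [Algebra A B] [IsLocalHom (algebraMap A B)]

theorem ringKrullDim_fibRing_cpl [Module.Flat A B] [Algebra (Cpl A) (Cpl B)]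
    [Module.Flat (Cpl A) (Cpl B)]
    [IsLocalHom (algebraMap (Cpl A) (Cpl B))] :
    ringKrullDim (EGA4.FibRing (Cpl A) (Cpl B)) = ringKrullDim (EGA4.FibRing A B) := by
  have hnA : IsNoetherianRing (Cpl A) := Groth.Agent.S0543.result _ _
  have hnB : IsNoetherianRing (Cpl B) := Groth.Agent.S0543.result _ _
  have h1 := Ega4C.FlatLocal.ringKrullDim_eq A B
  have h2 := Ega4C.FlatLocal.ringKrullDim_eq (Cpl A) (Cpl B)
  have h3 : ringKrullDim (Cpl A) = ringKrullDim A := Ega4A.CplQuot.ringKrullDim_cpl A
  have h4 : ringKrullDim (Cpl B) = ringKrullDim B := Ega4A.CplQuot.ringKrullDim_cpl B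
  obtain ⟨a, ha⟩ := Ega4C.FlatLocal.exists_ringKrullDim_eq (R := A)
  obtain ⟨b, hb⟩ := Ega4C.FlatLocal.exists_ringKrullDim_eq (R := B)
  obtain ⟨c, hc⟩ := Ega4C.FlatLocal.exists_ringKrullDim_eq (R := EGA4.FibRing A B)
  obtain ⟨d, hd⟩ := Ega4C.FlatLocal.exists_ringKrullDim_eq (R := EGA4.FibRing (Cpl A) (Cpl B))
  rw [h3, h4, ha, hb, hd] at h2
  rw [ha, hb, hc] at h1
  rw [hc, hd]
  norm_cast at h1 h2 ⊢
  omega

/-- **Purity for regular local homomorphisms**, separably closed residue fields. -/
theorem purityHolds_of_isSepClosed [IsSepClosed (ResidueField A)] [IsSepClosed (ResidueField B)]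
    (h : CAlg.IsRegularHom A B)
    (hc : (1 ≤ ringKrullDim (EGA4.FibRing A B) ∧ 1 ≤ ringKrullDim A) ∨
      2 ≤ ringKrullDim (EGA4.FibRing A B)) : FEt.PurityHolds B := by
  by_cases h0 : ringKrullDim A ≤ 0
  · have h2 : 2 ≤ ringKrullDim (EGA4.FibRing A B) := by
      rcases hc with ⟨-, h1⟩ | h2
      · have := h1.trans h0
        norm_cast at this
      · exact h2
    exact purityHolds_of_dim_zero h h0 h2
  · have h1 : ¬ ringKrullDim (EGA4.FibRing A B) ≤ 0 := by
      intro hle
      rcases hc with ⟨h1, -⟩ | h2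
      · have := h1.trans hle
        norm_cast at this
      · have := h2.trans hle
        norm_cast at this
    have hfl : Module.Flat A B := h.1
    let _ : Algebra (Cpl A) (Cpl B) := (cplMap A B).toAlgebra
    have halg : algebraMap (Cpl A) (Cpl B) = cplMap A B := rfl
    have hloc : IsLocalHom (algebraMap (Cpl A) (Cpl B)) :=
      inferInstanceAs (IsLocalHom (cplMap A B))
    have h2 : CAlg.IsRegularHom (Cpl A) (Cpl B) := isRegularHom_cpl A B h halg
    have hfl' : Module.Flat (Cpl A) (Cpl B) := h2.1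
    have h3 : ringKrullDim (Cpl A) = ringKrullDim A := Ega4A.CplQuot.ringKrullDim_cpl A
    have h4 : FEt.PurityHolds (Cpl B) := by
      refine PurityComplete.purityHolds (sc_cpl A) (sc_cpl B) h2 (c1_of_not_le_zero ?_) ?_
      · rwa [ringKrullDim_fibRing_cpl (A := A) (B := B)]
      · rwa [h3]
    exact Groth.Agent.S0272.purity_of_completion B h4

end Groth.Agent.Pi1.H395.PurityReg
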