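import Groth.Agent.Pi1.H395.RegClass
import Groth.Agent.Pi1.H404.AlgCore
import Groth.Agent.S0335

/-!
# Connectedness of punctured spectra for regular local homomorphisms
-/

set_option autoImplicit false
universe u

open IsLocalRing TensorProduct

namespace Groth.Agent.Pi1.H395.RegConn

open RegClass

theorem isConnected_of_isDomain {R : Type u} [CommRing R] [IsLocalRing R] [IsDomain R]
    (h : ∃ P : Ideal R, P.IsPrime ∧ P ≠ maximalIdeal R) :
    _root_.IsConnected {x : PrimeSpectrum R | x.asIdeal ≠ maximalIdeal R} := by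
  obtain ⟨P, hP, hne⟩ := h
  refine ⟨⟨⟨P, hP⟩, hne⟩, ?_⟩
  have hopen : IsOpen {x : PrimeSpectrum R | x.asIdeal ≠ maximalIdeal R} := by
    have h1 : {x : PrimeSpectrum R | x.asIdeal ≠ maximalIdeal R} = {closedPoint R}ᶜ := by
      ext x
      simp only [Set.mem_ofPred_eq, Set.mem_compl_iff, Set.mem_singleton_iff, PrimeSpectrum.ext_iff]
      rfl
    rw [h1, isOpen_compl_iff]
    exact isClosed_singleton_closedPoint R
  have h2 : PreirreducibleSpace (PrimeSpectrum R) := inferInstance
  exact (PreirreducibleSpace.isPreirreducible_univ.open_subset hopen (Set.subset_univ _)).isPreconnected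

theorem isConnected_punctured_of_surjective {R R' : Type u} [CommRing R] [IsLocalRing R] [CommRing R']
    [IsLocalRing R'] (f : R →+* R') (hf : Function.Surjective f)
    (hh : IsHomeomorph (PrimeSpectrum.comap f))
    (h : _root_.IsConnected {x : PrimeSpectrum R' | x.asIdeal ≠ maximalIdeal R'}) :
    _root_.IsConnected {x : PrimeSpectrum R | x.asIdeal ≠ maximalIdeal R} := by
  have hloc : IsLocalHom f := IsLocalHom.of_surjective f hf
  have hcl : PrimeSpectrum.comap f (closedPoint R') = closedPoint R := comap_closedPoint f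
  have h1 : {x : PrimeSpectrum R | x.asIdeal ≠ maximalIdeal R} =
      PrimeSpectrum.comap f '' {x : PrimeSpectrum R' | x.asIdeal ≠ maximalIdeal R'} := by
    ext x
    constructor
    · intro hx
      obtain ⟨y, rfl⟩ := hh.surjective x
      refine ⟨y, fun hy => hx ?_, rfl⟩
      have hy' : y = closedPoint R' := PrimeSpectrum.ext hy
      rw [hy', hcl]
      rfl
    · rintro ⟨y, hy, rfl⟩ hx
      refine hy ?_
      have hx' : PrimeSpectrum.comap f y = closedPoint R := PrimeSpectrum.ext hx
      rw [← hcl] at hx'
      rw [hh.injective hx']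
      rfl
  rw [h1]
  exact h.image _ hh.continuous.continuousOn

variable {O R : Type u} [CommRing O] [IsLocalRing O] [IsNoetherianRing O] [CommRing R] [IsLocalRing R]
  [IsNoetherianRing R] [Algebra O R] [IsLocalHom (algebraMap O R)]

/-- The case of a reduced base. -/
theorem isConnected_of_isReduced [IsReduced O] (h : CAlg.IsRegularHom O R) (hc : C1 O R) :
    _root_.IsConnected {x : PrimeSpectrum R | x.asIdeal ≠ maximalIdeal R} := by
  by_cases hd : ringKrullDim O ≤ 0
  · have h0 : Ring.KrullDimLE 0 O := Ring.krullDimLE_iff.2 (by exact_mod_cast hd)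
    have hfield : IsField O := Ring.KrullDimLE.isField_of_isReduced
    have hm : maximalIdeal O = ⊥ := IsLocalRing.isField_iff_maximalIdeal_eq.1 hfield
    have hb : EGA4.mB O R = ⊥ := by rw [EGA4.mB, hm, Ideal.map_bot]
    have h1 := isRegularLocalRing_fibRing O R h
    have h2 : IsDomain (EGA4.FibRing O R) := Groth.Agent.S0558.result _
    have h3 : (EGA4.mB O R).IsPrime := (Ideal.Quotient.isDomain_iff_prime _).1 h2
    rw [hb] at h3
    have h4 : IsDomain R := IsDomain.of_bot_isPrime R
    obtain ⟨P, hP, -, hne⟩ := hc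
    exact isConnected_of_isDomain ⟨P, hP, hne⟩
  · have h1 : 1 ≤ LocCoh.depth O O := CalgA.SerreCrit.one_le_depth_of_isReduced hd
    have h2 := one_le_depth_fibRing O R h hc
    have hfl : Module.Flat O R := h.1
    have h3 := Ega4C.FlatLocal.depth_eq O R
    refine Groth.Agent.S0335.result R ?_
    rw [h3]
    have h4 : (2 : ℕ∞) = 1 + 1 := by norm_num
    rw [h4]
    exact add_le_add h1 h2

/-- For a regular local homomorphism with positive-dimensional closed fibre, the punctured spectrum of
the target is connected. -/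
theorem isConnected_punctured (h : CAlg.IsRegularHom O R) (hc : C1 O R) :
    _root_.IsConnected {x : PrimeSpectrum R | x.asIdeal ≠ maximalIdeal R} := by
  let O₁ := O ⧸ nilradical O
  have hn0 : nilradical O ≤ maximalIdeal O := nilradical_le_prime _
  have hnt : Nontrivial O₁ := Ideal.Quotient.nontrivial_iff.2
    (fun h => (maximalIdeal.isMaximal O).ne_top (top_le_iff.1 (h ▸ hn0)))
  have hl₁ : IsLocalRing O₁ := IsLocalRing.of_surjective' (Ideal.Quotient.mk _) Ideal.Quotient.mk_surjective
  have hred : IsReduced O₁ := (Ideal.isRadical_iff_quotient_reduced _).1 (Ideal.radical_isRadical _)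
  have hn₁ : IsNoetherianRing O₁ := inferInstance
  have hsurj : Function.Surjective (algebraMap O O₁) := Ideal.Quotient.mk_surjective
  have hf₁ : Module.Finite O O₁ := inferInstance
  have hntR : Nontrivial (O₁ ⊗[O] R) := nontrivial_tensor O R O₁
  have hs : Function.Surjective (Pi1.H404.AlgCore.toRed O O₁ R) :=
    Algebra.TensorProduct.includeRight_surjective R hsurj
  have hlR : IsLocalRing (O₁ ⊗[O] R) := IsLocalRing.of_surjective' _ hs
  have hlh : IsLocalHom (algebraMap O₁ (O₁ ⊗[O] R)) := isLocalHom_left O R O₁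
  have hnR : IsNoetherianRing (O₁ ⊗[O] R) := isNoetherianRing_of_surjective _ _ _ hs
  refine isConnected_punctured_of_surjective _ hs
    (Pi1.H404.AlgCore.isHomeomorph_comap_toRed hsurj (fun p hp => ?_)) ?_
  · exact Ideal.Quotient.eq_zero_iff_mem.1 hp
  · exact isConnected_of_isReduced (isRegularHom_tensor O₁ h) (hc.tensor O₁)

end Groth.Agent.Pi1.H395.RegConn
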